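import Cfsg.Agent.H273.S69.Core2
import Cfsg.Agent.H811.S69.So8
import Cfsg.Agent.H679.PModT
import Cfsg.Agent.H855.SpecE.Num

/-!
# S3469, task T11 (helper273 for helper214): `G ⧸ K` is not `PΩ₈⁻(q)`, `q = 7 ^ m`

`o_inner` : a group isospectral to `PSp₈(q)`, `q` a power of 7, has no quotient `PΩ₈⁻(q)` by a normal 7-subgroup.
-/

set_option autoImplicit false
set_option linter.unusedSectionVars false
set_option linter.unusedVariables false

universe u v

namespace Cfsg.Agent.H273.S69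

open Module QuadraticMap Matrix Cfsg.Agent.LieClassical.OrthCore Cfsg.Agent.H214.S69
open Cfsg.Agent.LieClassical.OrthFinite (isometryHom isometryHom_apply isometryHom_injective)
open Cfsg.Agent.ClassicalGeometry.Reflection (reflIso coe_reflIso reflectionMatrix_mulVec coe_mul_mulVec
  isometryGroup_ext polar_mulVec_of_isometry)

section core

variable {F : Type} [Field F] [Fintype F] {ι : Type} [Fintype ι] [DecidableEq ι] {Q : QuadraticForm F (ι → F)}
  {A : Type v} [AddCommGroup A] [DistribMulAction (Cfsg.Omega F ⇑Q) A]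

/-- **The core.** -/
theorem core [CharP F 7] (S : Space Q) (hneg : ¬ ∃ g : Cfsg.isometryGroup F ⇑Q, g ∈ Cfsg.Omega F ⇑Q ∧
      ((g : GL ι F) : Matrix ι ι F) = -1) {n : ℕ} {ε : ℤ} (hN : NData (Fintype.card F) n ε) (D : AData Q A)
    (hNA : NAStmt.{v} F) (hNB : NBStmt.{v} F) {x : Cfsg.Omega F ⇑Q} (hx : orderOf x = n) {a : A} (hxa : x • a = a) :
    ∃ y : Cfsg.Omega F ⇑Q, y • a = a ∧ (orderOf y : ℤ) * 2 = n * (Fintype.card F + ε) := by
  classical
  have h2 := S.h2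
  have hfin : Finite (Cfsg.isometryGroup F ⇑Q) := Subtype.finite
  have hn0 := hN.n_pos
  obtain ⟨n4, hn4⟩ := hN.four_dvd
  obtain ⟨hfr, hxP⟩ := S.struct hN x.2 (by rw [Subgroup.orderOf_coe, hx])
  set t : Cfsg.Omega F ⇑Q := x ^ (n / 2) with ht
  have htc : ((x : Cfsg.isometryGroup F ⇑Q) ^ (n / 2)) = (t : Cfsg.isometryGroup F ⇑Q) := by
    rw [ht, SubgroupClass.coe_pow]
  rw [htc] at hfr hxP
  have htt : t * t = 1 := by
    rw [ht, ← pow_add]
    have : n / 2 + n / 2 = n := by omega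
    rw [this, ← hx, pow_orderOf_eq_one]
  obtain ⟨-, w, hwl, hwW, hworth, hw1, hwt⟩ := H126.S74.OmInv.exists_unit_family h2 S.nd (by rw [S.dim]; norm_num)
    t.2 (congrArg Subtype.val htt) hfr
  have h : Fr Q t w := ⟨h2, S.nd, S.dim, hworth, hw1, hwt⟩
  have hpow : ∀ k : ℕ, x ^ k • a = a := by
    intro k
    induction k with
    | zero => rw [pow_zero, one_smul]
    | succ k ih => rw [pow_succ, mul_smul, hxa, ih]
  have hta : t • a = a := hpow _
  obtain ⟨p, hp, p', hp', hQp, hQp', h0, hsp⟩ := exists_orth_basis h2 h.ndOn_P h.finrank_P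
  have hns := h.not_isSquare hneg hp hp' hQp hQp' h0 hsp
  have hxP' : ∀ v ∈ Fr.P t, om x *ᵥ v = -v := fun v hv => hxP v (Fr.mem_P.1 hv)
  -- the quadratic character
  have hχ : quadraticChar F (-(Q p * Q p')) = -ε := by
    have h3 : -(Q p * Q p') = (-1) * (Q p * Q p') := by ring
    rw [h3, map_mul, quadraticChar_neg_one_iff_not_isSquare.2 hns, mul_neg, mul_one]
    congr 1
    have h4 := FiniteField.isSquare_neg_one_iff (F := F)
    obtain ⟨b, hb⟩ := hN.mod4
    rcases hN.eps with h5 | h5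
    · rw [h5, quadraticChar_one_iff_isSquare (neg_ne_zero.2 one_ne_zero), h4]
      rw [h5] at hb
      omega
    · rw [h5, quadraticChar_neg_one_iff_not_isSquare, h4]
      rw [h5] at hb
      omega
  obtain ⟨z, hz, ⟨b, c, hbc⟩, hord⟩ := exists_rot h2 hN.seven_le hN.eps hQp hQp' h0 hχ
  set g := reflIso Q p hQp * reflIso Q z hz with hg
  -- the number `m = (q + ε) / 2`
  obtain ⟨m, hm⟩ : ∃ m : ℕ, (m : ℤ) * 2 = Fintype.card F + ε := by
    obtain ⟨e, he⟩ := hN.mod4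
    refine ⟨(2 * e + ε).toNat, ?_⟩
    have h3 := hN.seven_le
    rcases hN.eps with h5 | h5 <;> rw [h5] at he ⊢ <;> omega
  have hm2 : orderOf g = m * 2 := by
    have : (orderOf g : ℤ) = ((m * 2 : ℕ) : ℤ) := by rw [hord]; push_cast; rw [hm]
    exact_mod_cast this
  have hmodd : Odd m := by
    obtain ⟨e, he⟩ := hN.mod4
    rw [Nat.odd_iff]
    rcases hN.eps with h5 | h5 <;> rw [h5] at he hm <;> omega
  have hgO : g ^ 2 ∈ Cfsg.Omega F ⇑Q := by
    rw [ClassicalGeometry.OmegaIndex.mem_Omega_iff h2 Q S.nd (by rw [S.dim]; norm_num) one_ne_zero]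
    constructor
    · have h3 : (((g ^ 2 : Cfsg.isometryGroup F ⇑Q) : GL ι F) : Matrix ι ι F) =
        ((g : GL ι F) : Matrix ι ι F) * ((g : GL ι F) : Matrix ι ι F) := by rw [pow_two]; rfl
      have h4 : ((g : GL ι F) : Matrix ι ι F) = ((reflIso Q p hQp : GL ι F) : Matrix ι ι F) *
        ((reflIso Q z hz : GL ι F) : Matrix ι ι F) := rfl
      rw [h3, Matrix.det_mul, h4, Matrix.det_mul, ClassicalGeometry.Reflection.det_reflIso,
        ClassicalGeometry.Reflection.det_reflIso]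
      ring
    · rw [map_pow]
      exact Int.units_sq _
  let d : Cfsg.Omega F ⇑Q := ⟨g ^ 2, hgO⟩
  have hdo : orderOf d = m := by
    have h3 : orderOf d = orderOf (g ^ 2) := (Subgroup.orderOf_coe d).symm
    rw [h3, orderOf_pow_of_dvd (by norm_num) (by rw [hm2]; exact Dvd.intro_left _ rfl), hm2]
    omega
  have hd : ∀ v, polar Q p v = 0 → polar Q p' v = 0 → om d *ᵥ v = v := by
    intro v hv hv'
    have h3 : polar Q z v = 0 := by
      rw [hbc, polar_add_left, polar_smul_left, polar_smul_left, hv, hv', smul_zero, smul_zero, add_zero]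
    have h4 : ((g : GL ι F) : Matrix ι ι F) *ᵥ v = v := by
      rw [hg, coe_mul_mulVec, refl_fix hz h3, refl_fix hQp hv]
    change (((g ^ 2 : Cfsg.isometryGroup F ⇑Q) : GL ι F) : Matrix ι ι F) *ᵥ v = v
    rw [pow_two, coe_mul_mulVec, h4, h4]
  have hda : d • a = a := h.rot D hNA hNB hp hp' hQp hQp' h0 hsp hns hxP' hta hxa hd
  have hpw : ∀ i, polar Q (w i) p = 0 := (h.fix_iff p).1 (Fr.mem_P.1 hp)
  have hpw' : ∀ i, polar Q (w i) p' = 0 := (h.fix_iff p').1 (Fr.mem_P.1 hp')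
  -- `x` and `d` commute
  have htx : t * x = x * t := by rw [ht, ← pow_succ, ← pow_succ']
  have hcomm : x * d = d * x := by
    apply h.ext'
    · intro i
      have h3 : om d *ᵥ w i = w i := hd _ (by rw [polar_comm, hpw]) (by rw [polar_comm, hpw'])
      have h4 : om t *ᵥ (om x *ᵥ w i) = -(om x *ᵥ w i) := by
        rw [← om_mul, htx, om_mul, h.t_w, Matrix.mulVec_neg]
      rw [om_mul, om_mul, h3]
      refine (hd _ (h.polar_fix (Fr.mem_P.1 hp) h4) (h.polar_fix (Fr.mem_P.1 hp') h4)).symm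
    · intro v hv
      have hvP : v ∈ Fr.P t := Fr.mem_P.2 hv
      have h3 : om d *ᵥ v ∈ Fr.P t := by
        apply Fr.mem_P.2
        rw [h.fix_iff]
        intro i
        have h4 := om_polar d (w i) v
        rw [hd (w i) (by rw [polar_comm, hpw]) (by rw [polar_comm, hpw'])] at h4
        rw [h4]
        exact (h.fix_iff v).1 hv i
      rw [om_mul, om_mul, hxP' _ h3, hxP' _ hvP, Matrix.mulVec_neg]
  refine ⟨x * d, by rw [mul_smul, hda, hxa], ?_⟩
  have hcop : (orderOf x).Coprime (orderOf d) := by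
    rw [hx, hdo]
    have h3 : Nat.gcd n m ∣ 2 := by
      have h4 := hN.gcd_dvd (c := m * 2) (by push_cast; exact hm)
      exact (Nat.gcd_dvd_gcd_mul_right_right n m 2).trans h4
    have h4 : Nat.gcd n m ∣ m := Nat.gcd_dvd_right _ _
    rcases (Nat.dvd_prime Nat.prime_two).1 h3 with h5 | h5
    · exact h5
    · rw [h5] at h4
      obtain ⟨k, hk⟩ := hmodd
      omega
  rw [(show Commute x d from hcomm).orderOf_mul_eq_mul_orderOf_of_coprime hcop, hx, hdo]
  push_cast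
  rw [mul_assoc, hm]

end core

/-- `quadFormMinus 3` as a quadratic form -/
def Q8' (F : Type*) [Field F] (a b : F) : QuadraticForm F ((Fin 3 ⊕ Fin 3) ⊕ Fin 2 → F) :=
  (LieClassical.OrthForms.minusForm 3 F a b).copy (Cfsg.quadFormMinus 3 F a b)
    (LieClassical.OrthForms.coe_minusForm 3 F a b).symm

theorem coe_Q8' (F : Type*) [Field F] (a b : F) : ⇑(Q8' F a b) = Cfsg.quadFormMinus 3 F a b := rfl

theorem space {F : Type*} [Field F] [Fintype F] (ho : Odd (Fintype.card F)) {a b : F} (hab : Aniso a b) :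
    Space (Q8' F a b) := by
  classical
  have h2 := H811.S69.two_ne_zero_of_odd ho
  refine ⟨h2, ?_, by simp, ?_⟩
  · rw [Q8', QuadraticMap.copy_eq]
    exact H377.nondegenerate_of_nondeg (LieClassical.OrthForms.nondeg_minusForm 3 F a b hab)
  · have := card_minus h2 ho hab
    exact this

theorem neg_not_mem {F : Type*} [Field F] [Fintype F] (ho : Odd (Fintype.card F)) {a b : F} (hab : Aniso a b) :
    ¬ ∃ g : Cfsg.isometryGroup F ⇑(Q8' F a b), g ∈ Cfsg.Omega F ⇑(Q8' F a b) ∧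
      ((g : GL ((Fin 3 ⊕ Fin 3) ⊕ Fin 2) F) : Matrix ((Fin 3 ⊕ Fin 3) ⊕ Fin 2) ((Fin 3 ⊕ Fin 3) ⊕ Fin 2) F) = -1 :=
  (S0791.result (F := F) rfl ho 4 (by norm_num) a b hab).not.2 (by
    obtain ⟨k, hk⟩ := ho
    rw [hk]
    have : (2 * k + 1) ^ 4 = 4 * (4 * k ^ 4 + 8 * k ^ 3 + 6 * k ^ 2 + 2 * k) + 1 := by ring
    omega)

/-- **T11** -/
theorem o_inner {F : Type} [Field F] [Fintype F] [CharP F 7] {G : Type u} [Group G] [Finite G]
    (hs : Spec8 (Fintype.card F) G) (hNA : NAStmt.{u} F) (hNB : NBStmt.{u} F) (K : Subgroup G) [K.Normal]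
    (hK : IsPGroup 7 ↥K) {a b : F} (hab : Aniso a b)
    (e : (G ⧸ K) ≃* Cfsg.POmega F (Cfsg.quadFormMinus 3 F a b)) : False := by
  classical
  set q := Fintype.card F with hq
  have h7p : Nat.Prime 7 := by norm_num
  have hq7 : 7 ∣ q := by
    obtain ⟨f, hf, hqf⟩ := hs.pow
    rw [hqf]
    exact dvd_pow_self 7 (by omega)
  have ho : Odd q := by
    obtain ⟨f, hf, hqf⟩ := hs.pow
    rw [hqf]
    exact Odd.pow (by decide)
  have hq0 : 0 < q := Fintype.card_pos
  set Q := Q8' F a b with hQ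
  have S : Space Q := space ho hab
  have hneg := neg_not_mem ho hab
  -- the arithmetic data
  obtain ⟨ε, n, hN, x₀, hx₀, hno⟩ : ∃ (ε : ℤ) (n : ℕ), NData q n ε ∧ ∃ x₀ : G, orderOf x₀ = 7 * n ∧
      ∀ k : ℕ, (k : ℤ) * 2 = n * (q + ε) → ∀ y : G, orderOf y ≠ 7 * k := by
    have h4 : q % 4 = 1 ∨ q % 4 = 3 := by
      obtain ⟨k, hk⟩ := ho
      omega
    have hq3 : 1 ≤ q ^ 3 := Nat.one_le_pow _ _ hq0
    rcases h4 with h4 | h4
    · obtain ⟨x₀, hx₀⟩ := hs.mem_minus
      refine ⟨1, q ^ 3 - 1, ⟨Or.inl rfl, hq7, hq0, by omega, by push_cast [hq3]; ring⟩, x₀, hx₀, ?_⟩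
      intro k hk y hy
      apply H855.SpecE.Up8.not_cube_minus hs.toUp8 h4 y
      rw [hy]
      congr 1
      have h5 : (((q ^ 3 - 1 : ℕ) : ℤ)) * (q + 1) = (((q ^ 3 - 1) * ((q + 1) / 2) : ℕ) : ℤ) * 2 := by
        have h6 : (q + 1) / 2 * 2 = q + 1 := by omega
        rw [Nat.cast_mul, mul_assoc]
        congr 1
        have h7 : (((q + 1) / 2 : ℕ) : ℤ) * 2 = (((q + 1) / 2 * 2 : ℕ) : ℤ) := by rw [Nat.cast_mul]; rfl
        rw [h7, h6]
        push_cast
        rfl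
      rw [h5] at hk
      have h6 : (k : ℤ) = (((q ^ 3 - 1) * ((q + 1) / 2) : ℕ) : ℤ) := by linarith
      exact_mod_cast h6
    · obtain ⟨x₀, hx₀⟩ := hs.mem_plus
      refine ⟨-1, q ^ 3 + 1, ⟨Or.inr rfl, hq7, hq0, by omega, by push_cast; ring⟩, x₀, hx₀, ?_⟩
      intro k hk y hy
      apply H855.SpecE.Up8.not_cube_plus hs.toUp8 h4 y
      rw [hy]
      congr 1
      have h5 : (((q ^ 3 + 1 : ℕ) : ℤ)) * (q + -1) = (((q ^ 3 + 1) * ((q - 1) / 2) : ℕ) : ℤ) * 2 := by
        have h6 : (q - 1) / 2 * 2 = q - 1 := by omega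
        rw [Nat.cast_mul, mul_assoc]
        congr 1
        have h7 : (((q - 1) / 2 : ℕ) : ℤ) * 2 = (((q - 1) / 2 * 2 : ℕ) : ℤ) := by rw [Nat.cast_mul]; rfl
        rw [h7, h6]
        push_cast [hq0]
        ring
      rw [h5] at hk
      have h6 : (k : ℤ) = (((q ^ 3 + 1) * ((q - 1) / 2) : ℕ) : ℤ) := by linarith
      exact_mod_cast h6
  have hn0 := hN.n_pos
  have hn7 := hN.seven_not_dvd
  -- the isomorphism with `Ω`
  have hcen : Subgroup.center (Cfsg.Omega F ⇑Q) = ⊥ := by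
    apply LieClassical.OrthCenter.center_omega_eq_bot S.nd (by rw [S.dim]; norm_num)
    · refine ⟨Pi.single (Sum.inl (Sum.inl 0)) 1, ?_, ?_⟩
      · intro h
        have := congrFun h (Sum.inl (Sum.inl 0))
        rw [Pi.single_eq_same] at this
        exact one_ne_zero this
      · rw [hQ, coe_Q8', Cfsg.quadFormMinus]
        simp [Pi.single_apply]
    · intro g hg h
      exact hneg ⟨g, hg, h⟩
  let Ψ : Cfsg.Omega F ⇑Q ≃* (G ⧸ K) :=
    (e.trans ((QuotientGroup.quotientMulEquivOfEq hcen).trans QuotientGroup.quotientBot)).symm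
  -- the order of the image of `x₀`
  set π := QuotientGroup.mk' K with hπ
  set o := orderOf (π x₀) with ho'
  have ho1 : o ∣ 7 * n := by rw [← hx₀]; exact orderOf_map_dvd π x₀
  have ho2 : n ∣ o := by
    have h1 : x₀ ^ o ∈ K := by
      rw [← QuotientGroup.eq_one_iff]
      change π (x₀ ^ o) = 1
      rw [map_pow, ho', pow_orderOf_eq_one]
    obtain ⟨k, hk⟩ := hK ⟨_, h1⟩
    have h3 : (x₀ ^ o) ^ 7 ^ k = 1 := congrArg Subtype.val hk
    rw [← pow_mul, ← orderOf_dvd_iff_pow_eq_one, hx₀] at h3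
    have h4 : n ∣ o * 7 ^ k := (Dvd.intro_left 7 rfl).trans h3
    exact (Nat.Coprime.pow_right k ((Nat.Prime.coprime_iff_not_dvd h7p).2 hn7).symm).dvd_of_dvd_mul_right h4
  have ho3 : o = n ∨ o = 7 * n := by
    obtain ⟨j, hj⟩ := ho2
    rw [hj, mul_comm 7 n] at ho1
    have h1 : j ∣ 7 := Nat.dvd_of_mul_dvd_mul_left hn0 ho1
    rcases (Nat.dvd_prime h7p).1 h1 with h3 | h3
    · left; rw [hj, h3, mul_one]
    · right; rw [hj, h3, mul_comm]
  have ho4 : o = n := by
    rcases ho3 with h1 | h1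
    · exact h1
    · exfalso
      apply S.order_seven hN ((Ψ.symm (π x₀) : Cfsg.Omega F ⇑Q) : Cfsg.isometryGroup F ⇑Q)
      rw [Subgroup.orderOf_coe, MulEquiv.orderOf_eq, ← ho', h1]
  have hk₀ : x₀ ^ n ∈ K := by
    rw [← QuotientGroup.eq_one_iff]
    change π (x₀ ^ n) = 1
    rw [map_pow, ← ho4, ho', pow_orderOf_eq_one]
  have hk₁ : x₀ ^ n ≠ 1 := by
    intro h1
    rw [← orderOf_dvd_iff_pow_eq_one, hx₀] at h1
    have := Nat.le_of_dvd hn0 h1
    omega
  have hg₀ : orderOf (x₀ ^ 7) = n := by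
    rw [orderOf_pow_of_dvd (by norm_num) (by rw [hx₀]; exact Dvd.intro _ rfl), hx₀]
    exact Nat.mul_div_cancel_left _ (by norm_num)
  obtain ⟨V, i1, i2, hV, v, hv0, hv⟩ := H679.PModT.exists_pmod_fix h7p K hK (g := x₀ ^ 7) (k := x₀ ^ n)
    (by rw [hg₀]; exact hn7) hk₀ hk₁ (by rw [← pow_add, ← pow_add, add_comm])
  have hxo : orderOf (π (x₀ ^ 7)) = n := by
    rw [map_pow, Nat.Coprime.orderOf_pow, ← ho', ho4]
    rw [← ho', ho4]
    exact ((Nat.Prime.coprime_iff_not_dvd h7p).2 hn7).symm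
  -- the module
  letI : DistribMulAction (Cfsg.Omega F ⇑Q) V := DistribMulAction.compHom V Ψ.toMonoidHom
  have hact : ∀ (g : Cfsg.Omega F ⇑Q) (a : V), g • a = Ψ g • a := fun g a => rfl
  have D : AData Q V := by
    refine ⟨hV.finite, hV.exp, ?_⟩
    intro y u hy hu hyu a ha
    by_contra hne
    have h1 : ∑ i ∈ Finset.range 7, (Ψ u) ^ i • a ≠ 0 := by
      intro h3
      apply hne
      rw [← h3]
      refine Finset.sum_congr rfl fun i _ => ?_
      rw [hact, map_pow]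
    obtain ⟨x, hx⟩ := hV.nrm (Ψ y) (Ψ u) (by rw [← map_mul, hyu, map_mul])
      (by rw [MulEquiv.orderOf_eq, hy]; norm_num) (by rw [MulEquiv.orderOf_eq, hu]) a ha h1
    rw [MulEquiv.orderOf_eq, hy] at hx
    exact hs.no98 x hx
  obtain ⟨y, hy, hyo⟩ := core S hneg hN D hNA hNB (x := Ψ.symm (π (x₀ ^ 7)))
    (by rw [MulEquiv.orderOf_eq, hxo]) (a := v) (by rw [hact, MulEquiv.apply_symm_apply]; exact hv)
  obtain ⟨x, hx⟩ := hV.fix (Ψ y) (by
    rw [MulEquiv.orderOf_eq]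
    intro h1
    have h3 : (7 : ℤ) ∣ n * (q + ε) := by
      rw [← hyo]
      exact (by exact_mod_cast h1 : (7 : ℤ) ∣ (orderOf y : ℤ)).mul_right _
    have h4 : Prime (7 : ℤ) := Int.prime_iff_natAbs_prime.2 (by norm_num)
    rcases h4.dvd_or_dvd h3 with h5 | h5
    · exact hn7 (by exact_mod_cast h5)
    · have h6 : (7 : ℤ) ∣ q := by exact_mod_cast hq7
      have h8 : (7 : ℤ) ∣ ε := by
        have := dvd_sub h5 h6
        rwa [add_sub_cancel_left] at this
      rcases hN.eps with h9 | h9 <;> rw [h9] at h8 <;> omega) v hv0 hy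
  rw [MulEquiv.orderOf_eq] at hx
  exact hno _ hyo x hx

end Cfsg.Agent.H273.S69
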