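import Cfsg.Agent.H273.S69.Perm
import Cfsg.Agent.LieClassical.OrthCore
import Cfsg.Agent.H953.Sympl

/-!
# S3469, task T11 (helper273 for helper214): isometries of a quadratic space of dimension 8

`SData Q s r` : `s` is an isometry of order `r` of a nondegenerate space of dimension 8, where `r` is prime and
`q ^ d = 1` modulo `r` only for `3 ∣ d`.

* `finrank_Fx` : the fixed space of `s` has dimension 2;
* `neg_or_one` : an involution commuting with `s` is `1` or `-1` on the orthogonal complement;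
* `eq_one_of_commute` : an isometry of order `p` (the characteristic) commuting with `s` is trivial.
-/

set_option autoImplicit false
set_option linter.unusedSectionVars false
set_option linter.unusedVariables false

namespace Cfsg.Agent.H273.S69

open Module QuadraticMap Cfsg.Agent.LieClassical.OrthCore

variable {F V : Type*} [Field F] [AddCommGroup V] [Module F V]

/-- the fixed space -/
abbrev Fx (s : V ≃ₗ[F] V) : Submodule F V := LinearMap.ker ((s : V →ₗ[F] V) - 1)

/-- the space `(s - 1) V` -/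
abbrev Rg (s : V ≃ₗ[F] V) : Submodule F V := LinearMap.range ((s : V →ₗ[F] V) - 1)

theorem mem_Fx {s : V ≃ₗ[F] V} {v : V} : v ∈ Fx s ↔ s v = v := by
  rw [LinearMap.mem_ker, LinearMap.sub_apply, sub_eq_zero]
  rfl

theorem mem_Rg {s : V ≃ₗ[F] V} {v : V} : v ∈ Rg s ↔ ∃ w, s w - w = v := Iff.rfl

theorem pow_map_mem {s : V ≃ₗ[F] V} {U : Submodule F V} (hU : ∀ u ∈ U, s u ∈ U) (k : ℕ) : ∀ u ∈ U, (s ^ k) u ∈ U := by
  induction k with
  | zero => exact fun u hu => hu
  | succ k ih =>
    intro u hu
    rw [pow_succ', LinearEquiv.mul_apply]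
    exact hU _ (ih u hu)

/-- Fixed points of an automorphism of prime power order on an invariant subspace. -/
theorem pow_modEq [Finite F] [FiniteDimensional F V] {r k : ℕ} (hr : r.Prime) (s : V ≃ₗ[F] V) (hs : s ^ r ^ k = 1)
    (U : Submodule F V) (hU : ∀ u ∈ U, s u ∈ U) :
    Nat.card F ^ finrank F U ≡ Nat.card F ^ finrank F ↥(U ⊓ Fx s) [MOD r] := by
  have : Finite V := Module.finite_of_finite F
  have : Finite U := Module.finite_of_finite F
  let f : U → U := fun u => ⟨s u, hU u u.2⟩
  have hfk : ∀ j : ℕ, ∀ u : U, ((f^[j] u : U) : V) = (s ^ j) (u : V) := by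
    intro j
    induction j with
    | zero => intro u; rfl
    | succ j ih =>
      intro u
      rw [Function.iterate_succ_apply', pow_succ', LinearEquiv.mul_apply, ← ih]
  have h := natCard_modEq hr (k := k) f (fun u => Subtype.ext (by rw [hfk, hs]; rfl))
  have e : {u : U // f u = u} ≃ ↥(U ⊓ Fx s) :=
    { toFun := fun u => ⟨u.1, u.1.2, mem_Fx.2 (congrArg Subtype.val u.2)⟩
      invFun := fun u => ⟨⟨u.1, u.2.1⟩, Subtype.ext (mem_Fx.1 u.2.2)⟩
      left_inv := fun u => rfl
      right_inv := fun u => rfl }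
  rw [Nat.card_congr e, Module.natCard_eq_pow_finrank (K := F) (V := U),
    Module.natCard_eq_pow_finrank (K := F) (V := ↥(U ⊓ Fx s))] at h
  exact h

/-- The fixed space and `(s - 1) V` meet trivially. -/
theorem eq_zero_of_mem {r : ℕ} (hr0 : (r : F) ≠ 0) {s : V ≃ₗ[F] V} (hs : s ^ r = 1) {v : V} (h1 : v ∈ Fx s)
    (h2 : v ∈ Rg s) : v = 0 := by
  obtain ⟨w, rfl⟩ := mem_Rg.1 h2
  have h3 : ∀ k : ℕ, (s ^ k) (s w - w) = s w - w := by
    intro k
    induction k with
    | zero => rfl
    | succ k ih => rw [pow_succ, LinearEquiv.mul_apply, mem_Fx.1 h1, ih]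
  have h4 : ∑ k ∈ Finset.range r, (s ^ k) (s w - w) = 0 := by
    have h5 : ∀ k : ℕ, (s ^ k) (s w - w) = (s ^ (k + 1)) w - (s ^ k) w := by
      intro k
      rw [map_sub, pow_succ, LinearEquiv.mul_apply]
    rw [Finset.sum_congr rfl fun k _ => h5 k, Finset.sum_range_sub (fun k => (s ^ k) w), hs, pow_zero, sub_self]
  rw [Finset.sum_congr rfl fun k _ => h3 k, Finset.sum_const, Finset.card_range, ← Nat.cast_smul_eq_nsmul F] at h4
  exact (smul_eq_zero.1 h4).resolve_left hr0

/-- determinants of isometries -/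
theorem det_isom [FiniteDimensional F V] (B : LinearMap.BilinForm F V) (hB : B.Nondegenerate) (g : V →ₗ[F] V)
    (hg : ∀ x y, B (g x) (g y) = B x y) :
    LinearMap.det g ^ 2 = 1 ∧ LinearMap.det (g - 1) * (LinearMap.det g - (-1) ^ finrank F V) = 0 ∧
      LinearMap.det (g + 1) * (LinearMap.det g - 1) = 0 := by
  let b := finBasis F V
  set S := LinearMap.BilinForm.toMatrix b B with hS
  set M := LinearMap.toMatrix b b g with hM
  have hS0 : S.det ≠ 0 := (LinearMap.BilinForm.nondegenerate_iff_det_ne_zero b).1 hB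
  have hMS : M.transpose * S * M = S := by
    rw [hS, hM, ← LinearMap.BilinForm.toMatrix_comp b b]
    congr 1
    ext x y
    exact hg x y
  have hd : LinearMap.det g = M.det := (LinearMap.det_toMatrix b g).symm
  have hd1 : LinearMap.det (g - 1) = (M - 1).det := by
    rw [← LinearMap.det_toMatrix b (g - 1), map_sub, LinearMap.toMatrix_one]
  have hd2 : LinearMap.det (g + 1) = (M + 1).det := by
    rw [← LinearMap.det_toMatrix b (g + 1), map_add, LinearMap.toMatrix_one]
  rw [hd, hd1, hd2]
  refine ⟨?_, ?_, ?_⟩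
  · have h := congrArg Matrix.det hMS
    rw [Matrix.det_mul, Matrix.det_mul, Matrix.det_transpose] at h
    apply mul_right_cancel₀ hS0
    linear_combination h
  · have h1 : (M - 1).transpose * S * M = -(S * (M - 1)) := by
      rw [Matrix.transpose_sub, Matrix.transpose_one, Matrix.sub_mul, Matrix.one_mul, Matrix.sub_mul, hMS,
        Matrix.mul_sub, Matrix.mul_one, neg_sub]
    have h := congrArg Matrix.det h1
    rw [Matrix.det_mul, Matrix.det_mul, Matrix.det_transpose, Matrix.det_neg, Matrix.det_mul, Fintype.card_fin] at h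
    apply mul_right_cancel₀ hS0
    linear_combination h
  · have h1 : (M + 1).transpose * S * M = S * (M + 1) := by
      rw [Matrix.transpose_add, Matrix.transpose_one, Matrix.add_mul, Matrix.one_mul, Matrix.add_mul, hMS,
        Matrix.mul_add, Matrix.mul_one, add_comm]
    have h := congrArg Matrix.det h1
    rw [Matrix.det_mul, Matrix.det_mul, Matrix.det_transpose, Matrix.det_mul] at h
    apply mul_right_cancel₀ hS0
    linear_combination h

/-- a linear map with `det (g - 1) = 0` has a fixed vector -/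
theorem exists_of_det [FiniteDimensional F V] (g : V →ₗ[F] V) (h : LinearMap.det g = 0) : ∃ v, v ≠ 0 ∧ g v = 0 := by
  obtain ⟨v, hv, hv0⟩ := (Submodule.ne_bot_iff _).1 (bot_lt_iff_ne_bot.1 (LinearMap.bot_lt_ker_of_det_eq_zero h))
  exact ⟨v, hv0, hv⟩

/-- `Q` is nondegenerate on `U`. -/
def NdOn (Q : QuadraticForm F V) (U : Submodule F V) : Prop := ∀ u ∈ U, (∀ w ∈ U, polar Q u w = 0) → u = 0

variable {Q : QuadraticForm F V}

theorem NdOn.nondegenerate {U : Submodule F V} (h : NdOn Q U) :
    (LinearMap.BilinForm.restrict (polarBilin Q) U).Nondegenerate := by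
  constructor
  · intro u hu
    exact Subtype.ext (h u u.2 fun w hw => hu ⟨w, hw⟩)
  · intro u hu
    refine Subtype.ext (h u u.2 fun w hw => ?_)
    rw [polar_comm]
    exact hu ⟨w, hw⟩

/-- An isometry of odd order of a nondegenerate space of odd dimension fixes a nonzero vector. -/
theorem exists_fixed_of_odd [FiniteDimensional F V] (h2 : (2 : F) ≠ 0) {s : V ≃ₗ[F] V} (hsO : s ∈ O Q) {m : ℕ}
    (hm : Odd m) (hs : s ^ m = 1) {U : Submodule F V} (hU : ∀ u ∈ U, s u ∈ U) (hnd : NdOn Q U)
    (hodd : Odd (finrank F U)) : ∃ u ∈ U, u ≠ 0 ∧ s u = u := by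
  let g : U →ₗ[F] U := (s : V →ₗ[F] V).restrict hU
  have hgv : ∀ u : U, ((g u : U) : V) = s u := fun u => rfl
  obtain ⟨h3, h4, -⟩ := det_isom _ hnd.nondegenerate g (fun x y => by
    change polar Q (s x) (s y) = polar Q x y
    exact polar_map hsO _ _)
  have hgm : g ^ m = 1 := by
    have h5 : ∀ k : ℕ, ∀ u : U, (((g ^ k) u : U) : V) = (s ^ k) (u : V) := by
      intro k
      induction k with
      | zero => intro u; rfl
      | succ k ih =>
        intro u
        rw [pow_succ', Module.End.mul_apply, hgv, ih, pow_succ', LinearEquiv.mul_apply]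
    ext u
    rw [h5, hs]
    rfl
  have h5 : LinearMap.det g ^ m = 1 := by rw [← map_pow, hgm, map_one]
  have h6 : LinearMap.det g = 1 := by
    obtain ⟨k, hk⟩ := hm
    rw [hk, pow_succ, pow_mul, h3, one_pow, one_mul] at h5
    exact h5
  rw [h6, hodd.neg_one_pow] at h4
  have h7 : LinearMap.det (g - 1) = 0 := by
    rcases mul_eq_zero.1 h4 with h | h
    · exact h
    · exact absurd (by linear_combination h) h2
  obtain ⟨u, hu0, hu⟩ := exists_of_det _ h7
  refine ⟨u, u.2, fun h => hu0 (Subtype.ext h), ?_⟩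
  have h8 : g u = u := by
    rw [LinearMap.sub_apply, sub_eq_zero] at hu
    exact hu
  exact congrArg Subtype.val h8

/-- An isometry of order a power of the characteristic preserving a nondegenerate plane is trivial on it. -/
theorem eq_of_plane [FiniteDimensional F V] (h2 : (2 : F) ≠ 0) {p k : ℕ} [hp : Fact p.Prime] [CharP F p]
    {u : V ≃ₗ[F] V} (huO : u ∈ O Q)
    (hu : u ^ p ^ k = 1) {P : Submodule F V} (hP : ∀ v ∈ P, u v ∈ P) (hnd : NdOn Q P) (hd : finrank F P = 2) :
    ∀ v ∈ P, u v = v := by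
  by_contra hcon
  push Not at hcon
  obtain ⟨e, heP, he⟩ := hcon
  set T : V →ₗ[F] V := (u : V →ₗ[F] V) - 1 with hT
  have hTP : ∀ v ∈ P, T v ∈ P := fun v hv => P.sub_mem (hP v hv) hv
  have hTn : T ^ p ^ k = 0 := by
    rcases subsingleton_or_nontrivial V with hV | hV
    · ext v
      exact Subsingleton.elim _ _
    have hch : CharP (Module.End F V) p := charP_of_injective_algebraMap (algebraMap F (Module.End F V)).injective p
    have h1 := sub_pow_char_pow_of_commute p k (Commute.one_right (u : V →ₗ[F] V))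
    have h3 : (u : V →ₗ[F] V) ^ p ^ k = 1 := by
      have h4 : ∀ j : ℕ, ∀ v, ((u : V →ₗ[F] V) ^ j) v = (u ^ j) v := by
        intro j
        induction j with
        | zero => intro v; rfl
        | succ j ih => intro v; rw [pow_succ', Module.End.mul_apply, ih, pow_succ', LinearEquiv.mul_apply]; rfl
      ext v
      rw [h4, hu]
      rfl
    rw [h3, one_pow, sub_self] at h1
    exact h1
  have hTk : ∀ j : ℕ, (T ^ j) e ∈ P := by
    intro j
    induction j with
    | zero => exact heP
    | succ j ih => rw [pow_succ', Module.End.mul_apply]; exact hTP _ ih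
  -- the last nonzero power
  have hex : ∃ j : ℕ, (T ^ j) e = 0 := ⟨p ^ k, by rw [hTn]; rfl⟩
  classical
  set j := Nat.find hex with hj
  have hj0 : (T ^ j) e = 0 := Nat.find_spec hex
  have hj2 : 2 ≤ j := by
    by_contra hlt
    have h1 : j = 0 ∨ j = 1 := by omega
    rcases h1 with h1 | h1
    · rw [h1] at hj0
      have h3 : e = 0 := hj0
      rw [h3, map_zero] at he
      exact he rfl
    · rw [h1, pow_one] at hj0
      exact he (sub_eq_zero.1 hj0)
  have hjm : (T ^ (j - 1)) e ≠ 0 := Nat.find_min hex (by omega)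
  set e' := (T ^ (j - 2)) e with he'
  set f := (T ^ (j - 1)) e with hf
  have hTe : T e' = f := by
    rw [he', hf, ← Module.End.mul_apply, ← pow_succ']
    congr 2
    omega
  have hTf : T f = 0 := by
    rw [hf, ← Module.End.mul_apply, ← pow_succ', ← hj0]
    congr 2
    omega
  have hue : u e' = e' + f := by
    have : u e' - e' = f := hTe
    rw [← this]
    abel
  have huf : u f = f := sub_eq_zero.1 hTf
  have h1 := polar_map huO e' f
  rw [hue, huf, polar_add_left] at h1
  have hff : polar Q f f = 0 := by linear_combination h1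
  have h3 := mem_O.1 huO e'
  rw [hue, Q_add] at h3
  have hQf : 2 * Q f = 0 := by rw [← polar_self']; exact hff
  have h4 := polar_map huO e' e'
  rw [hue, polar_add_left, polar_add_right, polar_add_right, hff, polar_comm Q f e'] at h4
  -- `2 polar e' f = 0` and `polar e' f = - Q f`
  have hef : 2 * polar Q e' f = 0 := by linear_combination h4
  · have hef0 : polar Q e' f = 0 := (mul_eq_zero.1 hef).resolve_left h2
    apply hjm
    apply hnd f (hTk _)
    -- `e'`, `f` span `P`
    have hli : LinearIndependent F ![e', f] := by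
      rw [LinearIndependent.pair_iff]
      intro a c hac
      have h5 := congrArg T hac
      rw [map_add, map_smul, map_smul, hTe, hTf, smul_zero, add_zero, map_zero] at h5
      have ha : a = 0 := (smul_eq_zero.1 h5).resolve_right hjm
      rw [ha, zero_smul, zero_add] at hac
      exact ⟨ha, (smul_eq_zero.1 hac).resolve_right hjm⟩
    have hspan : Submodule.span F (Set.range ![e', f]) = P := by
      apply Submodule.eq_of_le_of_finrank_eq
      · rw [Submodule.span_le]
        rintro _ ⟨i, rfl⟩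
        fin_cases i
        · exact hTk _
        · exact hTk _
      · rw [finrank_span_eq_card hli, Fintype.card_fin, hd]
    intro w hw
    rw [← hspan] at hw
    induction hw using Submodule.span_induction with
    | mem x hx =>
      obtain ⟨i, rfl⟩ := hx
      fin_cases i
      · change polar Q f e' = 0
        rw [polar_comm, hef0]
      · exact hff
    | zero => simp [polar]
    | add x y _ _ hx hy => rw [polar_add_right, hx, hy, add_zero]
    | smul c x _ hx => rw [polar_smul_right, hx, smul_zero]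

/-! ### An element of prime order -/

/-- `s` is an isometry of prime order `r` of a space of dimension 8; `q ^ d = 1` modulo `r` only for `3 ∣ d`. -/
structure SData (Q : QuadraticForm F V) (s : V ≃ₗ[F] V) (r : ℕ) : Prop where
  h2 : (2 : F) ≠ 0
  nd : Nondeg Q
  dim : finrank F V = 8
  mem : s ∈ O Q
  prime : r.Prime
  odd : Odd r
  ne_zero : (r : F) ≠ 0
  pow : s ^ r = 1
  ne_one : s ≠ 1
  three : ∀ d, Nat.card F ^ d ≡ 1 [MOD r] → 3 ∣ d

namespace SData

variable [Finite F] [FiniteDimensional F V] {s : V ≃ₗ[F] V} {r : ℕ}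

theorem inf_eq (h : SData Q s r) : Rg s ⊓ Fx s = ⊥ := by
  rw [eq_bot_iff]
  intro v hv
  exact (Submodule.mem_bot F).2 (eq_zero_of_mem h.ne_zero h.pow hv.2 hv.1)

theorem isCompl (h : SData Q s r) : IsCompl (Rg s) (Fx s) := by
  have h1 := LinearMap.finrank_range_add_finrank_ker ((s : V →ₗ[F] V) - 1)
  have h3 : Disjoint (Rg s) (Fx s) := disjoint_iff.2 h.inf_eq
  exact ⟨h3, codisjoint_iff.2 (Submodule.eq_top_of_disjoint _ _ h1.ge h3)⟩

theorem orth (h : SData Q s r) {p w : V} (hp : p ∈ Fx s) (hw : w ∈ Rg s) : polar Q p w = 0 := by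
  obtain ⟨v, rfl⟩ := mem_Rg.1 hw
  have h1 := polar_map h.mem p v
  rw [mem_Fx.1 hp] at h1
  rw [polar_sub_right, h1, sub_self]

theorem exists_add (h : SData Q s r) (v : V) : ∃ p ∈ Fx s, ∃ w ∈ Rg s, v = p + w := by
  have h1 : v ∈ Rg s ⊔ Fx s := by rw [h.isCompl.sup_eq_top]; trivial
  obtain ⟨w, hw, p, hp, rfl⟩ := Submodule.mem_sup.1 h1
  exact ⟨p, hp, w, hw, add_comm _ _⟩

theorem ndOn_Fx (h : SData Q s r) : NdOn Q (Fx s) := by
  intro u hu h1
  apply h.nd
  intro v
  obtain ⟨p, hp, w, hw, rfl⟩ := h.exists_add v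
  rw [polar_add_right, h1 p hp, h.orth hu hw, add_zero]

theorem ndOn_Rg (h : SData Q s r) : NdOn Q (Rg s) := by
  intro u hu h1
  apply h.nd
  intro v
  obtain ⟨p, hp, w, hw, rfl⟩ := h.exists_add v
  rw [polar_add_right, h1 w hw, polar_comm, h.orth hp hu, add_zero]

theorem map_Rg (h : SData Q s r) {u : V} (hu : u ∈ Rg s) : s u ∈ Rg s := by
  obtain ⟨v, rfl⟩ := mem_Rg.1 hu
  exact mem_Rg.2 ⟨s v, by rw [map_sub]⟩

/-- invariant subspaces without fixed vectors -/
theorem three_dvd (h : SData Q s r) {U : Submodule F V} (hU : ∀ u ∈ U, s u ∈ U) (hUW : U ≤ Rg s) :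
    3 ∣ finrank F U := by
  have h1 := pow_modEq (k := 1) h.prime s (by rw [pow_one]; exact h.pow) U hU
  have h3 : U ⊓ Fx s = ⊥ := by
    rw [eq_bot_iff, ← h.inf_eq]
    exact inf_le_inf_right _ hUW
  rw [h3, finrank_bot, pow_zero] at h1
  exact h.three _ h1

/-- nondegenerate invariant subspaces -/
theorem even (h : SData Q s r) {U : Submodule F V} (hU : ∀ u ∈ U, s u ∈ U) (hUW : U ≤ Rg s) (hnd : NdOn Q U) :
    Even (finrank F U) := by
  by_contra hcon
  obtain ⟨u, hu, hu0, hsu⟩ := exists_fixed_of_odd h.h2 h.mem h.odd h.pow hU hnd (Nat.not_even_iff_odd.1 hcon)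
  exact hu0 (eq_zero_of_mem h.ne_zero h.pow (mem_Fx.2 hsu) (hUW hu))

theorem finrank_Rg (h : SData Q s r) : finrank F (Rg s) = 6 := by
  have h1 := h.three_dvd (U := Rg s) (fun u hu => h.map_Rg hu) le_rfl
  have h3 := h.even (U := Rg s) (fun u hu => h.map_Rg hu) le_rfl h.ndOn_Rg
  have h4 : finrank F (Rg s) ≤ 8 := by rw [← h.dim]; exact Submodule.finrank_le _
  have h5 : finrank F (Rg s) ≠ 0 := by
    intro h0
    rw [Submodule.finrank_eq_zero] at h0
    apply h.ne_one
    ext v
    have h6 : s v - v ∈ Rg s := mem_Rg.2 ⟨v, rfl⟩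
    rw [h0, Submodule.mem_bot, sub_eq_zero] at h6
    exact h6
  obtain ⟨a, ha⟩ := h1
  obtain ⟨b, hb⟩ := h3
  omega

theorem finrank_Fx (h : SData Q s r) : finrank F (Fx s) = 2 := by
  have h1 := LinearMap.finrank_range_add_finrank_ker ((s : V →ₗ[F] V) - 1)
  have h3 := h.finrank_Rg
  have h4 := h.dim
  rw [h4] at h1
  change finrank F (Rg s) + finrank F (Fx s) = 8 at h1
  omega

/-- a commuting automorphism preserves both subspaces -/
theorem map_Fx_of_commute {t : V ≃ₗ[F] V} (hc : t * s = s * t) {u : V} (hu : u ∈ Fx s) : t u ∈ Fx s := by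
  rw [mem_Fx]
  have h1 := LinearEquiv.congr_fun hc u
  rw [LinearEquiv.mul_apply, LinearEquiv.mul_apply, mem_Fx.1 hu] at h1
  exact h1.symm

theorem map_Rg_of_commute {t : V ≃ₗ[F] V} (hc : t * s = s * t) {u : V} (hu : u ∈ Rg s) : t u ∈ Rg s := by
  obtain ⟨v, rfl⟩ := mem_Rg.1 hu
  refine mem_Rg.2 ⟨t v, ?_⟩
  have h1 := LinearEquiv.congr_fun hc v
  rw [LinearEquiv.mul_apply, LinearEquiv.mul_apply] at h1
  rw [map_sub, h1]

/-- A commuting involution is `1` or `-1` on `(s - 1) V`. -/
theorem neg_or_one (h : SData Q s r) {t : V ≃ₗ[F] V} (htO : t ∈ O Q) (ht : t ^ 2 = 1) (hc : t * s = s * t) :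
    (∀ w ∈ Rg s, t w = w) ∨ ∀ w ∈ Rg s, t w = -w := by
  have htt : ∀ v, t (t v) = v := by
    intro v
    rw [← LinearEquiv.mul_apply, ← pow_two, ht]
    rfl
  let U : Submodule F V := Rg s ⊓ Fx t
  have hUs : ∀ u ∈ U, s u ∈ U := by
    intro u hu
    refine ⟨h.map_Rg hu.1, ?_⟩
    exact map_Fx_of_commute (s := t) (t := s) hc.symm hu.2
  have hnd : NdOn Q U := by
    intro u hu h1
    apply h.ndOn_Rg u hu.1
    intro w hw
    have h3 : w + t w ∈ U := by
      refine ⟨(Rg s).add_mem hw (map_Rg_of_commute hc hw), mem_Fx.2 ?_⟩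
      rw [map_add, htt, add_comm]
    have h4 : polar Q u (w - t w) = 0 := by
      have h5 := polar_map htO u (w - t w)
      rw [mem_Fx.1 hu.2, map_sub, htt, ← neg_sub w (t w), polar_neg_right] at h5
      have h6 : 2 * polar Q u (w - t w) = 0 := by linear_combination -h5
      exact (mul_eq_zero.1 h6).resolve_left h.h2
    have h5 := h1 _ h3
    rw [polar_sub_right] at h4
    rw [polar_add_right] at h5
    have h6 : 2 * polar Q u w = 0 := by linear_combination h4 + h5
    exact (mul_eq_zero.1 h6).resolve_left h.h2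
  have h3 := h.three_dvd hUs inf_le_left
  have h4 := h.even hUs inf_le_left hnd
  have h5 : finrank F U ≤ 6 := by
    rw [← h.finrank_Rg]
    exact Submodule.finrank_mono inf_le_left
  have h6 : finrank F U = 0 ∨ finrank F U = 6 := by
    obtain ⟨a, ha⟩ := h3
    obtain ⟨b, hb⟩ := h4
    omega
  rcases h6 with h6 | h6
  · right
    intro w hw
    rw [Submodule.finrank_eq_zero] at h6
    have h7 : w + t w ∈ U := by
      refine ⟨(Rg s).add_mem hw (map_Rg_of_commute hc hw), mem_Fx.2 ?_⟩
      rw [map_add, htt, add_comm]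
    rw [h6, Submodule.mem_bot] at h7
    rw [eq_neg_iff_add_eq_zero, add_comm]
    exact h7
  · left
    intro w hw
    have h7 : U = Rg s := Submodule.eq_of_le_of_finrank_eq inf_le_left (by rw [h6, h.finrank_Rg])
    have h8 : w ∈ U := by rw [h7]; exact hw
    exact mem_Fx.1 h8.2

/-- An isometry of `p`-power order commuting with `s` is trivial (`p` the characteristic). -/
theorem eq_one_of_commute (h : SData Q s r) {p k : ℕ} [hp : Fact p.Prime] [CharP F p] {u : V ≃ₗ[F] V} (huO : u ∈ O Q)
    (hu : u ^ p ^ k = 1) (hc : u * s = s * u) : u = 1 := by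
  have hpc : p ∣ Nat.card F := by
    have := Fintype.ofFinite F
    obtain ⟨n, hn, hn'⟩ := FiniteField.card F p
    rw [Nat.card_eq_fintype_card, hn']
    exact dvd_pow_self p n.ne_zero
  have hpos : ∀ U : Submodule F V, (∀ v ∈ U, u v ∈ U) → finrank F U ≠ 0 → finrank F ↥(U ⊓ Fx u) ≠ 0 := by
    intro U hU h0 h1
    have h3 := pow_modEq hp.out u hu U hU
    rw [h1, pow_zero] at h3
    have h4 : Nat.card F ^ finrank F U ≡ 0 [MOD p] := (Nat.modEq_zero_iff_dvd).2 (hpc.trans (dvd_pow_self _ h0))
    have h5 := h3.symm.trans h4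
    rw [Nat.modEq_zero_iff_dvd, Nat.dvd_one] at h5
    exact hp.out.one_lt.ne' h5
  have hP : ∀ v ∈ Fx s, u v = v :=
    eq_of_plane h.h2 huO hu (fun v hv => map_Fx_of_commute hc hv) h.ndOn_Fx h.finrank_Fx
  have hPle : Fx s ≤ Fx u := fun v hv => mem_Fx.2 (hP v hv)
  have hRle : Rg u ≤ Rg s := by
    intro v hv
    obtain ⟨w, rfl⟩ := mem_Rg.1 hv
    obtain ⟨p', hp', w', hw', rfl⟩ := h.exists_add w
    rw [map_add, hP p' hp', add_sub_add_left_eq_sub]
    exact (Rg s).sub_mem (map_Rg_of_commute hc hw') hw'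
  let Z : Submodule F V := Rg s ⊓ Fx u
  have hZs : ∀ v ∈ Z, s v ∈ Z := fun v hv =>
    ⟨h.map_Rg hv.1, map_Fx_of_commute (s := u) (t := s) hc.symm hv.2⟩
  have hZ3 := h.three_dvd hZs inf_le_left
  have hZ0 : finrank F Z ≠ 0 := hpos (Rg s) (fun v hv => map_Rg_of_commute hc hv) (by rw [h.finrank_Rg]; norm_num)
  have hZ6 : finrank F Z ≤ 6 := by
    rw [← h.finrank_Rg]
    exact Submodule.finrank_mono inf_le_left
  have hcases : finrank F Z = 3 ∨ finrank F Z = 6 := by
    obtain ⟨a, ha⟩ := hZ3
    omega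
  rcases hcases with h3 | h6
  swap
  · have h7 : Z = Rg s := Submodule.eq_of_le_of_finrank_eq inf_le_left (by rw [h6, h.finrank_Rg])
    ext v
    obtain ⟨p', hp', w', hw', rfl⟩ := h.exists_add v
    rw [← h7] at hw'
    rw [map_add, hP p' hp', mem_Fx.1 hw'.2]
    rfl
  exfalso
  -- the fixed space of `u` has dimension 5
  have hsum := LinearMap.finrank_range_add_finrank_ker ((u : V →ₗ[F] V) - 1)
  change finrank F (Rg u) + finrank F (Fx u) = finrank F V at hsum
  rw [h.dim] at hsum
  have hF5 : finrank F (Fx u) = 5 := by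
    have h1 : Fx s ⊔ Z = Fx u := by
      apply le_antisymm
      · exact sup_le hPle inf_le_right
      · intro v hv
        obtain ⟨p', hp', w', hw', rfl⟩ := h.exists_add v
        apply Submodule.add_mem_sup hp'
        refine ⟨hw', ?_⟩
        have := (Fx u).sub_mem hv (hPle hp')
        rwa [add_sub_cancel_left] at this
    have h4 := Submodule.finrank_sup_add_finrank_inf_eq (Fx s) Z
    have h5 : Fx s ⊓ Z = ⊥ := by
      rw [eq_bot_iff, ← h.inf_eq]
      exact fun v hv => ⟨hv.2.1, hv.1⟩
    rw [h1, h5, finrank_bot, h.finrank_Fx, h3] at h4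
    exact h4
  have hR3 : finrank F (Rg u) = 3 := by omega
  -- `(u - 1) V` lies in the fixed space
  have hRF : Rg u ≤ Fx u := by
    have h1 : finrank F ↥(Rg u ⊓ Fx u) ≠ 0 := hpos (Rg u) (fun v hv => by
      obtain ⟨w, rfl⟩ := mem_Rg.1 hv
      exact mem_Rg.2 ⟨u w, by rw [map_sub]⟩) (by rw [hR3]; norm_num)
    have h4 : 3 ∣ finrank F ↥(Rg u ⊓ Fx u) := by
      apply h.three_dvd
      · intro v hv
        exact ⟨map_Rg_of_commute (s := u) (t := s) hc.symm hv.1, map_Fx_of_commute (s := u) (t := s) hc.symm hv.2⟩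
      · exact inf_le_left.trans hRle
    have h5 : finrank F ↥(Rg u ⊓ Fx u) ≤ 3 := by
      rw [← hR3]
      exact Submodule.finrank_mono inf_le_left
    have h6 : Rg u ⊓ Fx u = Rg u := Submodule.eq_of_le_of_finrank_eq inf_le_left (by
      rw [hR3]
      obtain ⟨a, ha⟩ := h4
      omega)
    rw [← h6]
    exact inf_le_right
  -- the alternating form `polar v ((u - 1) w)`
  have horth : ∀ z ∈ Fx u, ∀ v, polar Q z (u v - v) = 0 := by
    intro z hz v
    have h1 := polar_map huO z v
    rw [mem_Fx.1 hz] at h1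
    rw [polar_sub_right, h1, sub_self]
  have hQN : ∀ v, Q (u v - v) = 0 := by
    intro v
    have h1 := horth (u v - v) (hRF (mem_Rg.2 ⟨v, rfl⟩)) v
    rw [polar_self'] at h1
    exact (mul_eq_zero.1 h1).resolve_left h.h2
  have halt : ∀ v, polar Q v (u v - v) = 0 := by
    intro v
    have h1 : u v = v + (u v - v) := by abel
    have h4 := mem_O.1 huO v
    rw [h1, Q_add, hQN] at h4
    linear_combination h4
  obtain ⟨C, hC⟩ := Submodule.exists_isCompl (Fx u)
  have hC3 : finrank F C = 3 := by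
    have := Submodule.finrank_add_eq_of_isCompl hC
    rw [hF5, h.dim] at this
    omega
  let B : LinearMap.BilinForm F C :=
    ((polarBilin Q).compl₂ ((u : V →ₗ[F] V) - 1)).domRestrict₁₂ C C
  have hB : ∀ c c' : C, B c c' = polar Q (c : V) (u c' - c') := fun c c' => rfl
  have heven := H953.even_finrank_of_alt B (fun c => by rw [hB]; exact halt _) (by
    intro c hc'
    have h1 : ∀ v, polar Q (c : V) (u v - v) = 0 := by
      intro v
      have h4 : v ∈ Fx u ⊔ C := by rw [hC.sup_eq_top]; trivial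
      obtain ⟨z, hz, c', hc'', rfl⟩ := Submodule.mem_sup.1 h4
      have h5 := hc' ⟨c', hc''⟩
      rw [hB] at h5
      rw [map_add, mem_Fx.1 hz, add_sub_add_left_eq_sub]
      exact h5
    have h4 : ∀ v, polar Q v (u c - c) = 0 := by
      intro v
      have h5 := halt ((c : V) + v)
      rw [map_add, polar_add_left, add_sub_add_comm, polar_add_right, polar_add_right, halt, halt, h1 v] at h5
      linear_combination h5
    have h5 : u c - c = 0 := by
      apply h.nd
      intro v
      rw [polar_comm]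
      exact h4 v
    have h6 : (c : V) ∈ Fx u ⊓ C := ⟨mem_Fx.2 (sub_eq_zero.1 h5), c.2⟩
    rw [hC.inf_eq_bot, Submodule.mem_bot] at h6
    exact Subtype.ext h6)
  rw [hC3] at heven
  exact absurd heven (by decide)

end SData

end Cfsg.Agent.H273.S69
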