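import Mathlib

/-!
# S3469, task T11 (helper273 for helper214): arithmetic of `n = q ^ 3 - ε`, `q = ε` modulo 4
-/

set_option autoImplicit false

namespace Cfsg.Agent.H273.S69

/-- `n = q ^ 3 - ε`, `ε = ± 1`, `q = ε` modulo 4, `7 ∣ q`. -/
structure NData (q n : ℕ) (ε : ℤ) : Prop where
  eps : ε = 1 ∨ ε = -1
  seven : 7 ∣ q
  pos : 0 < q
  mod4 : (4 : ℤ) ∣ q - ε
  eq : (n : ℤ) = (q : ℤ) ^ 3 - ε

namespace NData

variable {q n : ℕ} {ε : ℤ}

theorem eps_sq (h : NData q n ε) : ε * ε = 1 := by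
  rcases h.eps with rfl | rfl <;> norm_num

theorem seven_le (h : NData q n ε) : 7 ≤ q := Nat.le_of_dvd h.pos h.seven

theorem four_dvd (h : NData q n ε) : 4 ∣ n := by
  obtain ⟨a, ha⟩ := h.mod4
  have hq : (q : ℤ) = 4 * a + ε := by linarith
  have : (4 : ℤ) ∣ n := by
    rw [h.eq, hq]
    refine ⟨16 * a ^ 3 + 12 * a ^ 2 * ε + 3 * a, ?_⟩
    linear_combination (12 * a + ε) * h.eps_sq
  exact_mod_cast this

theorem n_pos (h : NData q n ε) : 0 < n := by
  have h1 := h.seven_le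
  have h3 : (0 : ℤ) < n := by
    rw [h.eq]
    have h4 : (7 : ℤ) ≤ q := by exact_mod_cast h1
    have h5 : (7 : ℤ) ^ 3 ≤ (q : ℤ) ^ 3 := pow_le_pow_left₀ (by norm_num) h4 3
    rcases h.eps with h6 | h6 <;> rw [h6] <;> linarith
  exact_mod_cast h3

theorem seven_not_dvd (h : NData q n ε) : ¬ 7 ∣ n := by
  intro h1
  have h3 : (7 : ℤ) ∣ n := by exact_mod_cast h1
  have h4 : (7 : ℤ) ∣ (q : ℤ) ^ 3 := dvd_pow (by exact_mod_cast h.seven) (by norm_num)
  rw [h.eq] at h3
  have h5 : (7 : ℤ) ∣ ε := by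
    have := dvd_sub h4 h3
    rwa [sub_sub_cancel] at this
  rcases h.eps with h6 | h6 <;> rw [h6] at h5 <;> omega

theorem exists_prime (h : NData q n ε) : ∃ r : ℕ, r.Prime ∧ Odd r ∧ r ∣ n ∧ ¬ r ∣ q ∧
    (r : ℤ) ∣ (q : ℤ) ^ 2 + ε * q + 1 ∧ ∀ d, q ^ d ≡ 1 [MOD r] → 3 ∣ d := by
  have h7 := h.seven_le
  have h7' : (7 : ℤ) ≤ q := by exact_mod_cast h7
  have hee := h.eps_sq
  obtain ⟨m, hm⟩ : ∃ m : ℕ, (m : ℤ) = (q : ℤ) ^ 2 + ε * q + 1 := by
    refine ⟨((q : ℤ) ^ 2 + ε * q + 1).toNat, Int.toNat_of_nonneg ?_⟩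
    rcases h.eps with h6 | h6 <;> rw [h6] <;> nlinarith
  have hm4 : 4 ≤ m := by
    have : (4 : ℤ) ≤ m := by
      rw [hm]
      rcases h.eps with h6 | h6 <;> rw [h6] <;> nlinarith
    exact_mod_cast this
  have hqodd : ¬ (2 : ℤ) ∣ q := by
    obtain ⟨a, ha⟩ := h.mod4
    rcases h.eps with h6 | h6 <;> rw [h6] at ha <;> omega
  have hmodd : ¬ 2 ∣ m := by
    intro h2
    have h3 : (2 : ℤ) ∣ m := by exact_mod_cast h2
    rw [hm] at h3
    obtain ⟨b, hb⟩ : ∃ b : ℤ, (q : ℤ) = 2 * b + 1 := ⟨(q : ℤ) / 2, by omega⟩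
    obtain ⟨c, hc⟩ := h3
    rw [hb] at hc
    rcases h.eps with h6 | h6 <;> rw [h6] at hc
    · have : 4 * (b * b) + 6 * b + 3 = 2 * c := by linear_combination hc
      omega
    · have : 4 * (b * b) + 2 * b + 1 = 2 * c := by linear_combination hc
      omega
  have hm9 : ¬ 9 ∣ m := by
    intro h2
    have h3 : (9 : ℤ) ∣ m := by exact_mod_cast h2
    rw [hm] at h3
    obtain ⟨c, hc⟩ := h3
    -- modulo 3 and 9
    have h4 : ∃ b : ℤ, (q : ℤ) = 3 * b + ε := by
      have h5 : (q : ℤ) % 3 = 0 ∨ (q : ℤ) % 3 = 1 ∨ (q : ℤ) % 3 = 2 := by omega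
      obtain ⟨b, hb⟩ : ∃ b : ℤ, (q : ℤ) = 3 * b + (q : ℤ) % 3 := ⟨(q : ℤ) / 3, by omega⟩
      rcases h5 with h5 | h5 | h5 <;> rw [h5] at hb <;> rcases h.eps with h6 | h6 <;> rw [h6] at hc ⊢ <;>
        rw [hb] at hc
      · exfalso
        have : 9 * (b * b) + 3 * b + 1 = 9 * c := by linear_combination hc
        omega
      · exfalso
        have : 9 * (b * b) - 3 * b + 1 = 9 * c := by linear_combination hc
        omega
      · exact ⟨b, by rw [hb]⟩
      · exfalso
        have : 9 * (b * b) + 3 * b + 1 = 9 * c := by linear_combination hc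
        omega
      · exfalso
        have : 9 * (b * b) + 15 * b + 7 = 9 * c := by linear_combination hc
        omega
      · exact ⟨b + 1, by rw [hb]; ring⟩
    obtain ⟨b, hb⟩ := h4
    rw [hb] at hc
    have h5 : 9 * (b * b) + 9 * (b * ε) + 3 * (ε * ε) = 9 * c + 0 * ε + (ε * ε) - 1 := by linear_combination hc
    rw [hee] at h5
    generalize b * b = u at h5
    generalize b * ε = v at h5
    omega
  -- a prime divisor different from 3
  obtain ⟨r, hr, hrm, hr3⟩ : ∃ r : ℕ, r.Prime ∧ r ∣ m ∧ r ≠ 3 := by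
    by_contra hcon
    push Not at hcon
    have h1 : m = 3 ^ m.primeFactorsList.length := Nat.eq_prime_pow_of_unique_prime_dvd (by omega) fun hd hdm =>
      hcon _ hd hdm
    have h3 : m.primeFactorsList.length ≤ 1 := by
      by_contra h4
      apply hm9
      rw [h1]
      exact pow_dvd_pow 3 (show 2 ≤ _ by omega)
    have h4 : m ≤ 3 := by
      rw [h1]
      calc 3 ^ m.primeFactorsList.length ≤ 3 ^ 1 := Nat.pow_le_pow_right (by norm_num) h3
        _ = 3 := by norm_num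
    omega
  have : Fact r.Prime := ⟨hr⟩
  have hr2 : r ≠ 2 := by
    rintro rfl
    exact hmodd hrm
  have hrmZ : (r : ℤ) ∣ (q : ℤ) ^ 2 + ε * q + 1 := by
    rw [← hm]
    exact_mod_cast hrm
  -- in `ZMod r`
  set u : ZMod r := (q : ZMod r) with hu
  set e : ZMod r := (ε : ZMod r) with he
  have hZ : u ^ 2 + e * u + 1 = 0 := by
    have h1 := (ZMod.intCast_zmod_eq_zero_iff_dvd ((q : ℤ) ^ 2 + ε * q + 1) r).2 hrmZ
    push_cast at h1
    exact h1
  have hee' : e * e = 1 := by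
    have h1 := congrArg (fun z : ℤ => (z : ZMod r)) hee
    push_cast at h1
    exact h1
  have hu0 : u ≠ 0 := by
    intro h0
    rw [h0] at hZ
    simp at hZ
  have h3ne : (3 : ZMod r) ≠ 0 := by
    intro h0
    have h1 : ((3 : ℕ) : ZMod r) = 0 := by exact_mod_cast h0
    rw [ZMod.natCast_eq_zero_iff] at h1
    exact hr3 ((Nat.prime_dvd_prime_iff_eq hr Nat.prime_three).1 h1)
  have hu3 : u ^ 3 = e := by linear_combination (u - e) * hZ + u * hee'
  have h1ne : u ≠ 1 := by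
    intro h0
    rw [h0] at hZ hu3
    have : e = 1 := by linear_combination -hu3
    rw [this] at hZ
    exact h3ne (by linear_combination hZ)
  have h1ne' : u ≠ -1 := by
    intro h0
    rw [h0] at hZ hu3
    have : e = -1 := by linear_combination -hu3
    rw [this] at hZ
    exact h3ne (by linear_combination hZ)
  have hsq : u ^ 2 ≠ 1 := by
    intro h0
    have h1 : (u - 1) * (u + 1) = 0 := by linear_combination h0
    rcases mul_eq_zero.1 h1 with h1 | h1
    · exact h1ne (by linear_combination h1)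
    · exact h1ne' (by linear_combination h1)
  have hsq' : u ^ 2 ≠ -1 := by
    intro h0
    have h1 : e * u = 0 := by linear_combination hZ - h0
    rcases mul_eq_zero.1 h1 with h1 | h1
    · rw [h1] at hee'
      simp at hee'
    · exact hu0 h1
  have he1 : e = 1 ∨ e = -1 := by
    rcases h.eps with h6 | h6
    · left; rw [he, h6]; simp
    · right; rw [he, h6]; simp
  refine ⟨r, hr, hr.odd_of_ne_two hr2, ?_, ?_, hrmZ, ?_⟩
  · have h1 : (r : ℤ) ∣ n := by
      rw [h.eq]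
      have h3 : (q : ℤ) ^ 3 - ε = ((q : ℤ) ^ 2 + ε * q + 1) * (q - ε) + q * (ε * ε - 1) := by ring
      rw [h3, hee, sub_self, mul_zero, add_zero]
      exact hrmZ.mul_right _
    exact_mod_cast h1
  · intro h1
    apply hu0
    rw [hu, ZMod.natCast_eq_zero_iff]
    exact h1
  · intro d hd
    have h1 : u ^ d = 1 := by
      have h3 := (ZMod.natCast_eq_natCast_iff _ _ r).2 hd
      push_cast at h3
      exact h3
    obtain ⟨j, hj⟩ : ∃ j, d = 3 * j + d % 3 := ⟨d / 3, by omega⟩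
    have h3 : d % 3 = 0 ∨ d % 3 = 1 ∨ d % 3 = 2 := by omega
    have hej : e ^ j = 1 ∨ e ^ j = -1 := by
      rcases he1 with h4 | h4
      · left; rw [h4, one_pow]
      · rw [h4]; exact neg_one_pow_eq_or _ j
    rcases h3 with h3 | h3 | h3
    · exact Nat.dvd_of_mod_eq_zero h3
    · exfalso
      rw [hj, h3, pow_add, pow_mul, hu3, pow_one] at h1
      rcases hej with h4 | h4 <;> rw [h4] at h1
      · exact h1ne (by linear_combination h1)
      · exact h1ne' (by linear_combination -h1)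
    · exfalso
      rw [hj, h3, pow_add, pow_mul, hu3] at h1
      rcases hej with h4 | h4 <;> rw [h4] at h1
      · exact hsq (by linear_combination h1)
      · exact hsq' (by linear_combination -h1)

/-- The greatest common divisor of `n` and `q + ε`. -/
theorem gcd_dvd (h : NData q n ε) {c : ℕ} (hc : (c : ℤ) = q + ε) : Nat.gcd n c ∣ 2 := by
  have h1 : ((Nat.gcd n c : ℕ) : ℤ) ∣ n := by exact_mod_cast Nat.gcd_dvd_left n c
  have h3 : ((Nat.gcd n c : ℕ) : ℤ) ∣ c := by exact_mod_cast Nat.gcd_dvd_right n c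
  have h4 : ((Nat.gcd n c : ℕ) : ℤ) ∣ 2 * ε := by
    have h5 : 2 * ε = c * ((q : ℤ) ^ 2 - ε * q + 1) - n := by
      rw [hc, h.eq]
      linear_combination q * h.eps_sq
    rw [h5]
    exact dvd_sub (h3.mul_right _) h1
  have h5 : ((Nat.gcd n c : ℕ) : ℤ) ∣ 2 := by
    rcases h.eps with h6 | h6
    · rwa [h6, mul_one] at h4
    · rw [h6] at h4
      rwa [mul_neg, mul_one, dvd_neg] at h4
  exact_mod_cast h5

end NData

end Cfsg.Agent.H273.S69
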