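import Cfsg.Agent.LieClassical.QuadCount
import Cfsg.Agent.ClassicalGeometry.Universal
import Cfsg.Agent.H326.S69.OTwo

/-!
# S3469, task T11 (helper273 for helper214): number of solutions of `Q x = 1`

* `card_diag` : `α x² + β y² = 1` has `q - χ(-αβ)` solutions;
* `card_minus` : `quadFormMinus 3 F a b v = 1` has `q ^ 7 + q ^ 3` solutions.
-/

set_option autoImplicit false

namespace Cfsg.Agent.H273.S69

open Cfsg.Agent.ClassicalGeometry

variable {F : Type*} [Field F] [Fintype F] [DecidableEq F]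

theorem card_sq (h2 : (2 : F) ≠ 0) {a : F} (ha : a ≠ 0) (t : F) :
    ((Finset.univ.filter fun x : F => a * x ^ 2 = t).card : ℤ) = 1 + quadraticChar F (a * t) := by
  have h := quadraticChar_card_sqrts (Universal.ringChar_ne_two h2) (a⁻¹ * t)
  have h1 : ({x : F | x ^ 2 = a⁻¹ * t} : Set F).toFinset = Finset.univ.filter fun x : F => a * x ^ 2 = t := by
    ext x
    simp only [Set.mem_toFinset, Set.mem_ofPred_eq, Finset.mem_filter, Finset.mem_univ, true_and]
    exact ⟨fun h => by rw [h, mul_inv_cancel_left₀ ha], fun h => by rw [← h, inv_mul_cancel_left₀ ha]⟩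
  rw [h1] at h
  rw [h, add_comm]
  congr 1
  have h3 : a * t = a ^ 2 * (a⁻¹ * t) := by field_simp
  rw [h3, map_mul (quadraticChar F) (a ^ 2), quadraticChar_sq_one' ha, one_mul]

theorem card_diag (h2 : (2 : F) ≠ 0) {a b : F} (ha : a ≠ 0) (hb : b ≠ 0) :
    (Nat.card {p : F × F // a * p.1 ^ 2 + b * p.2 ^ 2 = 1} : ℤ) = Fintype.card F - quadraticChar F (-(a * b)) := by
  have hF := Universal.ringChar_ne_two h2
  have h1 : (Nat.card {p : F × F // a * p.1 ^ 2 + b * p.2 ^ 2 = 1} : ℤ) =
      ∑ t : F, (((Finset.univ.filter fun x : F => a * x ^ 2 = t).card : ℤ) *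
        ((Finset.univ.filter fun y : F => b * y ^ 2 = 1 - t).card : ℤ)) := by
    rw [Nat.card_eq_fintype_card, Fintype.card_subtype,
      Finset.card_eq_sum_card_fiberwise (f := fun p : F × F => a * p.1 ^ 2) (t := Finset.univ)
        (fun _ _ => Finset.mem_coe.2 (Finset.mem_univ _)), Nat.cast_sum]
    refine Finset.sum_congr rfl fun t _ => ?_
    rw [← Nat.cast_mul, ← Finset.card_product]
    congr 2
    ext ⟨x, y⟩
    simp only [Finset.mem_filter, Finset.mem_univ, true_and, Finset.mem_product]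
    constructor
    · rintro ⟨h, h'⟩
      exact ⟨h', by rw [← h', ← h]; ring⟩
    · rintro ⟨h, h'⟩
      exact ⟨by rw [h, h']; ring, h⟩
  have hsum : ∀ c : F, c ≠ 0 → ∑ t : F, quadraticChar F (c * t) = 0 := by
    intro c hc
    have h3 := quadraticChar_sum_zero hF
    rw [← h3]
    exact Fintype.sum_equiv (Equiv.mulLeft₀ c hc) _ _ (fun t => rfl)
  have hsum' : ∑ t : F, quadraticChar F (b * (1 - t)) = 0 := by
    rw [← hsum b hb]
    exact Fintype.sum_equiv (Equiv.subLeft (1 : F)) _ _ (fun t => rfl)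
  have hJ : ∑ t : F, quadraticChar F t * quadraticChar F (1 - t) = -quadraticChar F (-1) := by
    have h3 := jacobiSum_nontrivial_inv (quadraticChar_ne_one hF)
    rw [(quadraticChar_isQuadratic F).inv] at h3
    exact h3
  have h4 : ∀ t : F, (((Finset.univ.filter fun x : F => a * x ^ 2 = t).card : ℤ) *
        ((Finset.univ.filter fun y : F => b * y ^ 2 = 1 - t).card : ℤ)) =
      1 + quadraticChar F (a * t) + quadraticChar F (b * (1 - t)) +
        quadraticChar F (a * b) * (quadraticChar F t * quadraticChar F (1 - t)) := by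
    intro t
    rw [card_sq h2 ha, card_sq h2 hb]
    simp only [map_mul]
    ring
  rw [h1, Finset.sum_congr rfl fun t _ => h4 t, Finset.sum_add_distrib, Finset.sum_add_distrib,
    Finset.sum_add_distrib, hsum a ha, hsum', ← Finset.mul_sum, hJ, Finset.sum_const, Finset.card_univ]
  have h5 : -(a * b) = (a * b) * (-1) := by ring
  rw [h5, map_mul (quadraticChar F) (a * b) (-1)]
  simp
  ring

open H214.S69 in
theorem card_binary (h2 : (2 : F) ≠ 0) (ho : Odd (Fintype.card F)) {a b : F} (hab : Aniso a b) :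
    Nat.card {w : Fin 2 → F // w 0 ^ 2 + a * w 0 * w 1 + b * w 1 ^ 2 - 1 = 0} = Fintype.card F + 1 := by
  have h4 : (4 : F) ≠ 0 := by
    have : (4 : F) = 2 * 2 := by norm_num
    rw [this]
    exact mul_ne_zero h2 h2
  have hns := H326.S69.not_isSquare ho hab
  set d := b - a ^ 2 / 4 with hd
  have hd4 : -(1 * d) = (a ^ 2 - 4 * b) * (1 / 2) ^ 2 := by rw [hd]; field_simp; ring
  have hd0 : d ≠ 0 := by
    intro h
    rw [h, mul_zero, neg_zero] at hd4
    apply hns
    have h5 : a ^ 2 - 4 * b = 0 := (mul_eq_zero.1 hd4.symm).resolve_right (pow_ne_zero _ (by simpa using h2))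
    rw [h5]
    exact IsSquare.zero
  have hχ : quadraticChar F (-(1 * d)) = -1 := by
    rw [hd4, map_mul, quadraticChar_sq_one' (by simpa using h2), mul_one]
    exact quadraticChar_neg_one_iff_not_isSquare.2 hns
  have h := card_diag h2 (one_ne_zero : (1 : F) ≠ 0) hd0
  rw [hχ] at h
  have e : {w : Fin 2 → F // w 0 ^ 2 + a * w 0 * w 1 + b * w 1 ^ 2 - 1 = 0} ≃
      {p : F × F // 1 * p.1 ^ 2 + d * p.2 ^ 2 = 1} :=
    { toFun := fun w => ⟨(w.1 0 + a / 2 * w.1 1, w.1 1), by
        have h5 := w.2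
        have h6 : (4 : F) = 2 * 2 := by norm_num
        simp only [hd]
        rw [h6]
        field_simp
        linear_combination 4 * h5⟩
      invFun := fun p => ⟨![p.1.1 - a / 2 * p.1.2, p.1.2], by
        have h5 := p.2
        simp only [hd] at h5
        simp only [Matrix.cons_val_zero, Matrix.cons_val_one]
        have h6 : (4 : F) = 2 * 2 := by norm_num
        rw [h6] at h5
        field_simp at h5 ⊢
        linear_combination h5⟩
      left_inv := fun w => by
        apply Subtype.ext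
        funext i
        fin_cases i
        · simp
        · simp
      right_inv := fun p => by
        apply Subtype.ext
        apply Prod.ext
        · simp
        · simp }
  rw [Nat.card_congr e]
  have h5 : (Nat.card {p : F × F // 1 * p.1 ^ 2 + d * p.2 ^ 2 = 1} : ℤ) = ((Fintype.card F + 1 : ℕ) : ℤ) := by
    rw [h]
    push_cast
    ring
  exact_mod_cast h5

open H214.S69 in
theorem card_minus (h2 : (2 : F) ≠ 0) (ho : Odd (Fintype.card F)) {a b : F} (hab : Aniso a b) :
    Nat.card {v // Cfsg.quadFormMinus 3 F a b v = 1} = Fintype.card F ^ 7 + Fintype.card F ^ 3 := by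
  have h := LieClassical.QuadCount.card_sum (F := F) 3
    (fun w : Fin 2 → F => w 0 ^ 2 + a * w 0 * w 1 + b * w 1 ^ 2 - 1)
  rw [card_binary h2 ho hab, Fintype.card_fun, Fintype.card_fin] at h
  have e : {v // Cfsg.quadFormMinus 3 F a b v = 1} ≃
      {p : (Fin 3 ⊕ Fin 3 → F) × (Fin 2 → F) // Cfsg.quadFormPlus 3 F p.1 +
        (p.2 0 ^ 2 + a * p.2 0 * p.2 1 + b * p.2 1 ^ 2 - 1) = 0} :=
    (Equiv.sumArrowEquivProdArrow (Fin 3 ⊕ Fin 3) (Fin 2) F).subtypeEquiv (by
      intro v
      rw [← sub_eq_zero]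
      have : Cfsg.quadFormMinus 3 F a b v - 1 = Cfsg.quadFormPlus 3 F ((Equiv.sumArrowEquivProdArrow (Fin 3 ⊕ Fin 3) (Fin 2) F) v).1 +
        (((Equiv.sumArrowEquivProdArrow (Fin 3 ⊕ Fin 3) (Fin 2) F) v).2 0 ^ 2 +
        a * ((Equiv.sumArrowEquivProdArrow (Fin 3 ⊕ Fin 3) (Fin 2) F) v).2 0 *
        ((Equiv.sumArrowEquivProdArrow (Fin 3 ⊕ Fin 3) (Fin 2) F) v).2 1 +
        b * ((Equiv.sumArrowEquivProdArrow (Fin 3 ⊕ Fin 3) (Fin 2) F) v).2 1 ^ 2 - 1) := by
        change Cfsg.quadFormMinus 3 F a b v - 1 = (∑ i : Fin 3, v (.inl (.inl i)) * v (.inl (.inr i))) +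
          (v (.inr 0) ^ 2 + a * v (.inr 0) * v (.inr 1) + b * v (.inr 1) ^ 2 - 1)
        rw [Cfsg.quadFormMinus]
        ring
      rw [this])
  rw [Nat.card_congr e]
  set N := Nat.card {p : (Fin 3 ⊕ Fin 3 → F) × (Fin 2 → F) // Cfsg.quadFormPlus 3 F p.1 +
        (p.2 0 ^ 2 + a * p.2 0 * p.2 1 + b * p.2 1 ^ 2 - 1) = 0} with hN
  have hq : 0 < Fintype.card F := Fintype.card_pos
  apply Nat.eq_of_mul_eq_mul_left hq
  have h3 : Fintype.card F * N + Fintype.card F ^ 2 * Fintype.card F ^ 3 =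
      Fintype.card F * (Fintype.card F ^ 7 + Fintype.card F ^ 3) + Fintype.card F ^ 2 * Fintype.card F ^ 3 := by
    rw [h]
    ring
  exact Nat.add_right_cancel h3

end Cfsg.Agent.H273.S69
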