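import Cfsg.Agent.H273.S69.Rot

/-!
# S3469, task T11 (helper273 for helper214): the core of the argument

`core` : an element `x` of order `n = q ^ 3 - ε` of `Ω₈⁻(q)` which fixes a vector `a` of the module; then `a` is fixed by
an element of order `n (q + ε) / 2`.
-/

set_option autoImplicit false
set_option linter.unusedSectionVars false
set_option linter.unusedVariables false

universe v

namespace Cfsg.Agent.H273.S69

open Module QuadraticMap Matrix Cfsg.Agent.LieClassical.OrthCore Cfsg.Agent.H214.S69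
open Cfsg.Agent.LieClassical.OrthFinite (isometryHom isometryHom_apply isometryHom_injective)
open Cfsg.Agent.ClassicalGeometry.Reflection (reflIso coe_reflIso reflectionMatrix_mulVec coe_mul_mulVec
  isometryGroup_ext polar_mulVec_of_isometry)

variable {F : Type} [Field F] [Fintype F] {ι : Type} [Fintype ι] [DecidableEq ι] {Q : QuadraticForm F (ι → F)}

/-- The stabilizer of a subspace. -/
def St (Q : QuadraticForm F (ι → F)) (E : Submodule F (ι → F)) : Subgroup (Cfsg.Omega F ⇑Q) where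
  carrier := {g | ∀ v, v ∈ E ↔ om g *ᵥ v ∈ E}
  mul_mem' {g h} hg hh v := by
    rw [om_mul]
    exact (hh v).trans (hg _)
  one_mem' v := by rw [om_one]
  inv_mem' {g} hg v := by
    have h1 := hg (om g⁻¹ *ᵥ v)
    rw [← om_mul, mul_inv_cancel, om_one] at h1
    exact h1.symm

theorem om_injective (g : Cfsg.Omega F ⇑Q) : Function.Injective fun v => om g *ᵥ v := by
  intro v w h
  have h1 := congrArg (fun u => om g⁻¹ *ᵥ u) h
  simp only at h1
  rw [← om_mul, ← om_mul, inv_mul_cancel, om_one, om_one] at h1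
  exact h1

theorem mem_St {g : Cfsg.Omega F ⇑Q} {E : Submodule F (ι → F)} (h : ∀ v ∈ E, om g *ᵥ v ∈ E) : g ∈ St Q E := by
  intro v
  refine ⟨h v, fun hv => ?_⟩
  have h1 : E.map (isometryHom Q (g : Cfsg.isometryGroup F ⇑Q) : (ι → F) →ₗ[F] (ι → F)) = E := by
    apply Submodule.eq_of_le_of_finrank_eq
    · rintro _ ⟨w, hw, rfl⟩
      exact h w hw
    · exact LinearEquiv.finrank_map_eq _ E
  rw [← h1] at hv
  obtain ⟨u, hu, huv⟩ := hv
  have h3 : u = v := om_injective g huv
  rw [← h3]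
  exact hu

theorem refl_fix {a : ι → F} (ha : Q a ≠ 0) {v : ι → F} (h : polar Q a v = 0) :
    ((reflIso Q a ha : GL ι F) : Matrix ι ι F) *ᵥ v = v := by
  rw [coe_reflIso, reflectionMatrix_mulVec, h, mul_zero, zero_smul, sub_zero]

namespace Fr

variable {t : Cfsg.Omega F ⇑Q} {w : Fin 6 → ι → F}

theorem decomp (h : Fr Q t w) (v : ι → F) : ∃ (u : ι → F) (c : Fin 6 → F), om t *ᵥ u = u ∧ v = u + ∑ i, c i • w i := by
  refine ⟨(2 : F)⁻¹ • (v + om t *ᵥ v), fun i => 2⁻¹ * polar Q (w i) v, ?_, ?_⟩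
  · rw [Matrix.mulVec_smul, Matrix.mulVec_add, ← om_mul, h.t_sq, om_one, add_comm]
  · have h1 := h.map v
    have h2 : ∑ i, (2⁻¹ * polar Q (w i) v) • w i = (2 : F)⁻¹ • ∑ i, polar Q (w i) v • w i := by
      rw [Finset.smul_sum]
      exact Finset.sum_congr rfl fun i _ => mul_smul _ _ _
    rw [h2, h1, ← smul_add]
    have h3 : v + (v - ∑ i, polar Q (w i) v • w i) + ∑ i, polar Q (w i) v • w i = (2 : F) • v := by
      rw [two_smul]
      abel
    rw [h3, smul_smul, inv_mul_cancel₀ h.h2, one_smul]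

theorem ext' (h : Fr Q t w) {g g' : Cfsg.Omega F ⇑Q} (hw : ∀ i, om g *ᵥ w i = om g' *ᵥ w i)
    (hP : ∀ v, om t *ᵥ v = v → om g *ᵥ v = om g' *ᵥ v) : g = g' := by
  apply om_ext
  intro v
  obtain ⟨u, c, hu, rfl⟩ := h.decomp v
  rw [Matrix.mulVec_add, Matrix.mulVec_add, hP u hu, Matrix.mulVec_sum, Matrix.mulVec_sum]
  congr 1
  refine Finset.sum_congr rfl fun i _ => ?_
  rw [Matrix.mulVec_smul, Matrix.mulVec_smul, hw]

/-- vectors fixed by `t` are orthogonal to vectors negated by `t` -/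
theorem polar_fix (h : Fr Q t w) {u v : ι → F} (hu : om t *ᵥ u = u) (hv : om t *ᵥ v = -v) : polar Q u v = 0 := by
  have h1 := om_polar t u v
  rw [hu, hv, polar_neg_right] at h1
  have h3 : 2 * polar Q u v = 0 := by linear_combination -h1
  exact (mul_eq_zero.1 h3).resolve_left h.h2

theorem fix_iff (h : Fr Q t w) (v : ι → F) : om t *ᵥ v = v ↔ ∀ i, polar Q (w i) v = 0 := by
  constructor
  · intro hv i
    rw [polar_comm]
    exact h.polar_fix hv (h.t_w i)
  · intro hv
    rw [h.map, Finset.sum_eq_zero (fun i _ => by rw [hv i, zero_smul]), sub_zero]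

/-- the fixed space of `t` -/
noncomputable abbrev P (t : Cfsg.Omega F ⇑Q) : Submodule F (ι → F) := Fx (isometryHom Q (t : Cfsg.isometryGroup F ⇑Q))

theorem mem_P {v : ι → F} : v ∈ P t ↔ om t *ᵥ v = v := mem_Fx

theorem finrank_P (h : Fr Q t w) : finrank F (P t) = 2 := by
  have hli := linearIndependent_orth (Q := Q) h.h2 w h.orth h.ne
  have hW : finrank F (Submodule.span F (Set.range w)) = 6 := by rw [finrank_span_eq_card hli, Fintype.card_fin]
  have hcompl : IsCompl (P t) (Submodule.span F (Set.range w)) := by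
    constructor
    · rw [disjoint_iff, eq_bot_iff]
      rintro v ⟨hv, hv'⟩
      obtain ⟨c, rfl⟩ := exists_coeff hv'
      rw [Submodule.mem_bot]
      refine Finset.sum_eq_zero fun i _ => ?_
      have h1 := (h.fix_iff _).1 (mem_P.1 hv) i
      rw [polar_sum, Finset.sum_eq_single i (fun j _ hj => by rw [h.orth i j hj.symm, mul_zero])
        (fun h => absurd (Finset.mem_univ _) h), polar_self', h.one, mul_one] at h1
      rw [(mul_eq_zero.1 h1).resolve_right h.h2, zero_smul]
    · rw [codisjoint_iff, eq_top_iff]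
      rintro v -
      obtain ⟨u, c, hu, rfl⟩ := h.decomp v
      exact Submodule.add_mem_sup (mem_P.2 hu) (Submodule.sum_mem _ fun i _ =>
        Submodule.smul_mem _ _ (Submodule.subset_span ⟨i, rfl⟩))
  have h1 := Submodule.finrank_add_eq_of_isCompl hcompl
  rw [hW, Module.finrank_fintype_fun_eq_card, h.dim] at h1
  omega

theorem ndOn_P (h : Fr Q t w) : NdOn Q (P t) := by
  intro u hu h1
  apply h.nd.1
  intro v
  rw [polarBilin_apply_apply]
  obtain ⟨u', c, hu', rfl⟩ := h.decomp v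
  rw [polar_add_right, h1 u' (mem_P.2 hu'), zero_add, polar_sum]
  refine Finset.sum_eq_zero fun i _ => ?_
  rw [h.polar_fix (mem_P.1 hu) (h.t_w i), mul_zero]

/-- The discriminant of the fixed space. -/
theorem not_isSquare (h : Fr Q t w) (hneg : ¬ ∃ g : Cfsg.isometryGroup F ⇑Q, g ∈ Cfsg.Omega F ⇑Q ∧
      ((g : GL ι F) : Matrix ι ι F) = -1) {p p' : ι → F} (hp : p ∈ P t) (hp' : p' ∈ P t) (hQp : Q p ≠ 0)
    (hQp' : Q p' ≠ 0) (h0 : polar Q p p' = 0) (hsp : ∀ v ∈ P t, ∃ a c : F, v = a • p + c • p') :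
    ¬ IsSquare (Q p * Q p') := by
  intro hsq
  have h2 := h.h2
  let m : Cfsg.isometryGroup F ⇑Q := ⟨-1, fun v _ => by
    show Q ((-1 : Matrix ι ι F).mulVec v) = Q v
    rw [Matrix.neg_mulVec, Matrix.one_mulVec, QuadraticMap.map_neg]⟩
  apply hneg
  refine ⟨m, ?_, rfl⟩
  have hpw : ∀ i, polar Q (w i) p = 0 := (h.fix_iff p).1 (mem_P.1 hp)
  have hpw' : ∀ i, polar Q (w i) p' = 0 := (h.fix_iff p').1 (mem_P.1 hp')
  have horth : ([w 0, w 1, w 2, w 3, w 4, w 5, p, p'] : List (ι → F)).Pairwise fun v u => polar (⇑Q) v u = 0 := by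
    simp only [List.pairwise_cons, List.mem_cons, List.not_mem_nil, or_false, forall_eq_or_imp, forall_eq, hpw, hpw', h0,
      and_true, List.Pairwise.nil, IsEmpty.forall_iff, implies_true]
    refine ⟨⟨?_, ?_, ?_, ?_, ?_⟩, ⟨?_, ?_, ?_, ?_⟩, ⟨?_, ?_, ?_⟩, ⟨?_, ?_⟩, ?_⟩ <;> exact h.orth _ _ (by decide)
  rw [S2609.mem_Omega_of_prod h2 h.hι Q h.nd m [w 0, w 1, w 2, w 3, w 4, w 5, p, p'] (by
    simp only [List.mem_cons, List.not_mem_nil, or_false, forall_eq_or_imp, forall_eq]
    exact ⟨h.ne _, h.ne _, h.ne _, h.ne _, h.ne _, h.ne _, hQp, hQp'⟩) ?_]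
  · refine ⟨⟨4, rfl⟩, ?_⟩
    simp only [List.map_cons, List.map_nil, List.prod_cons, List.prod_nil, h.one, one_mul, mul_one]
    exact hsq
  · apply Matrix.mulVec_injective
    funext v
    rw [H126.S74.OmInv.prod_refl Q _ horth]
    change (-1 : Matrix ι ι F) *ᵥ v = _
    rw [Matrix.neg_mulVec, Matrix.one_mulVec]
    obtain ⟨u, c, hu, rfl⟩ := h.decomp v
    obtain ⟨x, y, rfl⟩ := hsp u (mem_P.2 hu)
    have hwp : ∀ i, polar Q (w i) (x • p + y • p' + ∑ i, c i • w i) = 2 * c i := by
      intro i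
      rw [polar_add_right, polar_add_right, polar_smul_right, polar_smul_right, hpw, hpw', polar_sum,
        Finset.sum_eq_single i (fun j _ hj => by rw [h.orth i j hj.symm, mul_zero])
        (fun h => absurd (Finset.mem_univ _) h), polar_self', h.one]
      simp only [smul_zero, zero_add, mul_one]
      ring
    have hpp : polar Q p (x • p + y • p' + ∑ i, c i • w i) = 2 * Q p * x := by
      rw [polar_add_right, polar_left _ _ h0, polar_sum, Finset.sum_eq_zero, add_zero]
      intro i _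
      rw [polar_comm, hpw, mul_zero]
    have hpp' : polar Q p' (x • p + y • p' + ∑ i, c i • w i) = 2 * Q p' * y := by
      rw [polar_add_right, polar_right _ _ h0, polar_sum, Finset.sum_eq_zero, add_zero]
      intro i _
      rw [polar_comm, hpw', mul_zero]
    simp only [List.map_cons, List.map_nil, List.sum_cons, List.sum_nil, hwp, hpp, hpp', h.one, inv_one, one_mul]
    simp only [Fin.sum_univ_succ, Fin.sum_univ_zero, Fin.succ_zero_eq_one, Fin.succ_one_eq_two]
    rw [show Fin.succ (2 : Fin 5) = (3 : Fin 6) from rfl, show Fin.succ (Fin.succ (2 : Fin 4)) = (4 : Fin 6) from rfl,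
      show Fin.succ (Fin.succ (Fin.succ (2 : Fin 3))) = (5 : Fin 6) from rfl]
    have e1 : (Q p)⁻¹ * (2 * Q p * x) = 2 * x := by field_simp
    have e2 : (Q p')⁻¹ * (2 * Q p' * y) = 2 * y := by field_simp
    rw [e1, e2]
    module

end Fr

end Cfsg.Agent.H273.S69
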