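import Cfsg.Agent.H273.S69.Core

/-!
# S3469, task T11 (helper273 for helper214): the second subgroup `Ω₅`

`Fr.rot` : rotations of the fixed plane of `t` fix the vector `a`.
-/

set_option autoImplicit false
set_option linter.unusedSectionVars false
set_option linter.unusedVariables false

universe v

namespace Cfsg.Agent.H273.S69

open Module QuadraticMap Matrix Cfsg.Agent.LieClassical.OrthCore Cfsg.Agent.H214.S69
open Cfsg.Agent.LieClassical.OrthFinite (isometryHom isometryHom_apply isometryHom_injective)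
open Cfsg.Agent.ClassicalGeometry.Reflection (reflIso coe_reflIso reflectionMatrix_mulVec coe_mul_mulVec
  isometryGroup_ext polar_mulVec_of_isometry)

variable {F : Type} [Field F] [Fintype F] {ι : Type} [Fintype ι] [DecidableEq ι] {Q : QuadraticForm F (ι → F)}

theorem refl_mem_of {a : ι → F} (ha : Q a ≠ 0) {E : Submodule F (ι → F)} (haE : a ∈ E) {v : ι → F} (hv : v ∈ E) :
    ((reflIso Q a ha : GL ι F) : Matrix ι ι F) *ᵥ v ∈ E := by
  rw [coe_reflIso, reflectionMatrix_mulVec]
  exact E.sub_mem hv (E.smul_mem _ haE)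

/-- the span of two vectors -/
theorem mem_pair {a b v : ι → F} : v ∈ Submodule.span F (Set.range ![a, b]) ↔ ∃ x y : F, v = x • a + y • b := by
  rw [Matrix.range_cons, Matrix.range_cons, Matrix.range_empty, Set.union_empty]
  constructor
  · intro hv
    have hv' : v ∈ Submodule.span F {a, b} := hv
    obtain ⟨x, y, h⟩ := Submodule.mem_span_pair.1 hv'
    exact ⟨x, y, h.symm⟩
  · rintro ⟨x, y, h⟩
    have : v ∈ Submodule.span F {a, b} := Submodule.mem_span_pair.2 ⟨x, y, h.symm⟩
    exact this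

variable {A : Type v} [AddCommGroup A] [DistribMulAction (Cfsg.Omega F ⇑Q) A]

namespace Fr

variable {t : Cfsg.Omega F ⇑Q} {w : Fin 6 → ι → F}

/-- the plane spanned by two vectors of the frame -/
abbrev pl (w : Fin 6 → ι → F) (i j : Fin 6) : Submodule F (ι → F) := Submodule.span F (Set.range ![w i, w j])

theorem left_mem_pl (i j : Fin 6) : w i ∈ pl w i j := Submodule.subset_span ⟨0, rfl⟩

theorem right_mem_pl (i j : Fin 6) : w j ∈ pl w i j := Submodule.subset_span ⟨1, rfl⟩

theorem orth_pair (h : Fr Q t w) {i j : Fin 6} (hij : i ≠ j) :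
    ∀ k l : Fin 2, k ≠ l → polar Q (![w i, w j] k) (![w i, w j] l) = 0 := by
  intro k l hkl
  fin_cases k <;> fin_cases l
  · exact absurd rfl hkl
  · exact h.orth i j hij
  · exact h.orth j i hij.symm
  · exact absurd rfl hkl

theorem ne_pair (h : Fr Q t w) {i j : Fin 6} : ∀ k : Fin 2, Q (![w i, w j] k) ≠ 0 := by
  intro k
  fin_cases k
  · exact h.ne i
  · exact h.ne j

theorem ndOn_pl (h : Fr Q t w) {i j : Fin 6} (hij : i ≠ j) : NdOn Q (pl w i j) :=
  ndOn_span h.h2 _ (h.orth_pair hij) h.ne_pair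

theorem finrank_pl (h : Fr Q t w) {i j : Fin 6} (hij : i ≠ j) : finrank F (pl w i j) = 2 := by
  rw [finrank_span_eq_card (linearIndependent_orth h.h2 _ (h.orth_pair hij) h.ne_pair), Fintype.card_fin]

/-- An element of order 7 preserving a nondegenerate plane is trivial on it. -/
theorem eq_of_order_seven [CharP F 7] (h2 : (2 : F) ≠ 0) {g : Cfsg.Omega F ⇑Q} (hg : orderOf g = 7)
    {E : Submodule F (ι → F)} (hE : g ∈ St Q E) (hnd : NdOn Q E) (hd : finrank F E = 2) : ∀ v ∈ E, om g *ᵥ v = v := by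
  have : Fact (Nat.Prime 7) := ⟨by norm_num⟩
  refine eq_of_plane (p := 7) (k := 1) h2 (u := isometryHom Q (g : Cfsg.isometryGroup F ⇑Q)) (hom_mem_O _) ?_
    (fun v hv => (hE v).1 hv) hnd hd
  rw [pow_one, ← map_pow, ← hg, ← SubgroupClass.coe_pow, pow_orderOf_eq_one]
  exact map_one _

set_option maxHeartbeats 4000000 in
/-- **The application of `NBStmt`.** -/
theorem rot [CharP F 7] (h : Fr Q t w) (D : AData Q A) (hNA : NAStmt.{v} F) (hNB : NBStmt.{v} F)
    {p p' : ι → F} (hp : p ∈ P t) (hp' : p' ∈ P t) (hQp : Q p ≠ 0) (hQp' : Q p' ≠ 0) (h0 : polar Q p p' = 0)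
    (hsp : ∀ v ∈ P t, ∃ a c : F, v = a • p + c • p') (hns : ¬ IsSquare (Q p * Q p'))
    {x : Cfsg.Omega F ⇑Q} (hx : ∀ v ∈ P t, om x *ᵥ v = -v) {a : A} (hta : t • a = a) (hxa : x • a = a)
    {d : Cfsg.Omega F ⇑Q} (hd : ∀ v, polar Q p v = 0 → polar Q p' v = 0 → om d *ᵥ v = v) : d • a = a := by
  have h2 := h.h2
  have hfin : Finite (Cfsg.Omega F ⇑Q) := Subtype.finite
  have hpw : ∀ i, polar Q (w i) p = 0 := (h.fix_iff p).1 (mem_P.1 hp)
  have hpw' : ∀ i, polar Q (w i) p' = 0 := (h.fix_iff p').1 (mem_P.1 hp')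
  have hwp : ∀ i, polar Q p (w i) = 0 := fun i => by rw [polar_comm, hpw]
  have hwp' : ∀ i, polar Q p' (w i) = 0 := fun i => by rw [polar_comm, hpw']
  have h0' : polar Q p' p = 0 := by rw [polar_comm, h0]
  -- the orthogonal family
  let u : Fin 5 → ι → F := ![w 0, w 1, w 2, p, p']
  have hu0 : u 0 = w 0 := rfl
  have hu1 : u 1 = w 1 := rfl
  have hu2 : u 2 = w 2 := rfl
  have hu3 : u 3 = p := rfl
  have hu4 : u 4 = p' := rfl
  have huorth : ∀ i j, i ≠ j → polar Q (u i) (u j) = 0 := by
    intro i j hij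
    fin_cases i <;> fin_cases j <;>
      first
      | exact absurd rfl hij
      | exact h.orth _ _ (by decide)
      | exact hpw _
      | exact hpw' _
      | exact hwp _
      | exact hwp' _
      | exact h0
      | exact h0'
  have hune : ∀ i, Q (u i) ≠ 0 := by
    intro i
    fin_cases i
    · exact h.ne 0
    · exact h.ne 1
    · exact h.ne 2
    · exact hQp
    · exact hQp'
  obtain ⟨S, hSu, huS⟩ := exists_sim5 (Q := Q) h2 u huorth hune
  have hQ5 := Q5_nondegenerate (F := F) h2
  have hc5 : 2 ≤ Fintype.card K5 := by decide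
  -- the involution `e 3 4`
  have he34 : ∀ z, om (h.e 3 4) *ᵥ S.J z = (1 : F) • S.J z := by
    intro z
    rw [one_smul]
    obtain ⟨b, hb⟩ := exists_coeff (hSu z)
    rw [hb, Matrix.mulVec_sum]
    refine Finset.sum_congr rfl fun i _ => ?_
    rw [Matrix.mulVec_smul]
    congr 1
    rw [h.om_e (by decide)]
    have h3 : polar Q (w 3) (u i) = 0 := by
      fin_cases i
      · exact h.orth _ _ (by decide)
      · exact h.orth _ _ (by decide)
      · exact h.orth _ _ (by decide)
      · exact hpw _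
      · exact hpw' _
    have h4 : polar Q (w 4) (u i) = 0 := by
      fin_cases i
      · exact h.orth _ _ (by decide)
      · exact h.orth _ _ (by decide)
      · exact h.orth _ _ (by decide)
      · exact hpw _
      · exact hpw' _
    rw [h3, h4, zero_smul, zero_smul, sub_zero, sub_zero]
  have hcomm := S.embO_comm hQ5 (y := h.e 3 4) (c := 1) (by ring) he34
  -- the elements `e i j` act trivially
  have hetriv : ∀ i j : Fin 6, i ≠ j → h.e i j • a = a := by
    intro i j hij
    apply h.triv D hNA _ hta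
    intro v hv
    rw [h.om_e hij, hv, hv, zero_smul, zero_smul, sub_zero, sub_zero]
  -- elements of `Ω(Q)` in the image of the embedding
  have hex : ∀ g : Cfsg.Omega F ⇑Q, (∀ v, (∀ i, polar Q (u i) v = 0) → om g *ᵥ v = v) →
      ∃ s : Cfsg.Omega F ⇑(Q5 F), S.embO s = g := by
    intro g hg
    apply S.exists_emb h2 hQ5 h.nd hc5 h.hι
    intro v hv
    apply hg
    intro i
    obtain ⟨z, hz⟩ := huS i
    rw [← hz]
    exact hv z
  -- the subgroups
  let H' : Subgroup (Cfsg.Omega F ⇑(Q5 F)) := (St Q (pl w 0 1) ⊓ St Q (pl w 2 3) ⊓ St Q (P t)).comap S.embO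
  let H : Subgroup (Cfsg.Omega F ⇑(Q5 F)) := H' ⊓ (MulAction.stabilizer (Cfsg.Omega F ⇑Q) a).comap S.embO
  have hH7 : ¬ 7 ∣ Nat.card ↥H' := by
    intro h7
    have : Fact (Nat.Prime 7) := ⟨by norm_num⟩
    have hfin5 : Finite (Cfsg.Omega F ⇑(Q5 F)) := Subtype.finite
    obtain ⟨s, hs⟩ := exists_prime_orderOf_dvd_card' (G := H') 7 h7
    set g := S.embO s with hg
    have hg7 : orderOf g = 7 := by
      rw [hg, orderOf_injective S.embO S.embO_injective, Subgroup.orderOf_coe, hs]
    obtain ⟨⟨hs1, hs2⟩, hs3⟩ := s.2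
    have f1 := eq_of_order_seven h2 hg7 hs1 (h.ndOn_pl (by decide)) (h.finrank_pl (by decide))
    have f2 := eq_of_order_seven h2 hg7 hs2 (h.ndOn_pl (by decide)) (h.finrank_pl (by decide))
    have f3 := eq_of_order_seven h2 hg7 hs3 h.ndOn_P h.finrank_P
    have hperp : ∀ v, (∀ i, polar Q (u i) v = 0) → om g *ᵥ v = v := by
      intro v hv
      refine S.emb_perp hQ5 _ ?_
      intro z
      obtain ⟨b, hb⟩ := exists_coeff (hSu z)
      rw [hb, polar_comm, polar_sum]
      refine Finset.sum_eq_zero fun i _ => ?_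
      rw [polar_comm, hv i, mul_zero]
    have hg1 : g = 1 := by
      apply h.ext'
      · intro i
        rw [om_one]
        fin_cases i
        · exact f1 _ (left_mem_pl 0 1)
        · exact f1 _ (right_mem_pl 0 1)
        · exact f2 _ (left_mem_pl 2 3)
        · exact f2 _ (right_mem_pl 2 3)
        · apply hperp
          intro i
          fin_cases i
          · exact h.orth _ _ (by decide)
          · exact h.orth _ _ (by decide)
          · exact h.orth _ _ (by decide)
          · exact hwp _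
          · exact hwp' _
        · apply hperp
          intro i
          fin_cases i
          · exact h.orth _ _ (by decide)
          · exact h.orth _ _ (by decide)
          · exact h.orth _ _ (by decide)
          · exact hwp _
          · exact hwp' _
      · intro v hv
        rw [om_one]
        exact f3 v (mem_P.2 hv)
    rw [hg1, orderOf_one] at hg7
    norm_num at hg7
  -- the elements of `H`
  have hH : ∀ g : Cfsg.Omega F ⇑Q, (∀ v, (∀ i, polar Q (u i) v = 0) → om g *ᵥ v = v) →
      (∀ v ∈ pl w 0 1, om g *ᵥ v ∈ pl w 0 1) → (∀ v ∈ pl w 2 3, om g *ᵥ v ∈ pl w 2 3) →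
      (∀ v ∈ P t, om g *ᵥ v ∈ P t) → g • a = a → ∃ s ∈ H, S.embO s = g := by
    intro g hg g1 g2 g3 hga
    obtain ⟨s, hs⟩ := hex g hg
    refine ⟨s, ⟨⟨⟨?_, ?_⟩, ?_⟩, ?_⟩, hs⟩
    · rw [hs]; exact mem_St g1
    · rw [hs]; exact mem_St g2
    · rw [hs]; exact mem_St g3
    · change S.embO s • a = a
      rw [hs]; exact hga
  have hPw : ∀ v ∈ P t, ∀ i, polar Q (w i) v = 0 := fun v hv => (h.fix_iff v).1 (mem_P.1 hv)
  have hP_e : ∀ i j : Fin 6, i ≠ j → ∀ v ∈ P t, om (h.e i j) *ᵥ v ∈ P t := by
    intro i j hij v hv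
    rw [h.om_e hij, hPw v hv, hPw v hv, zero_smul, zero_smul, sub_zero, sub_zero]
    exact hv
  obtain ⟨s₁, hs₁H, hs₁⟩ := hH (h.e 0 1) (by
      intro v hv
      rw [h.om_e (by decide), ← hu0, ← hu1, hv, hv, zero_smul, zero_smul, sub_zero, sub_zero]) (by
      intro v hv
      rw [h.om_e (by decide)]
      exact Submodule.sub_mem _ (Submodule.sub_mem _ hv (Submodule.smul_mem _ _ (left_mem_pl _ _)))
        (Submodule.smul_mem _ _ (right_mem_pl _ _))) (by
      intro v hv
      obtain ⟨b, c, rfl⟩ := mem_pair.1 hv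
      rw [Matrix.mulVec_add, Matrix.mulVec_smul, Matrix.mulVec_smul, h.e_other (by decide) (by decide) (by decide),
        h.e_other (by decide) (by decide) (by decide)]
      exact hv) (hP_e 0 1 (by decide)) (hetriv 0 1 (by decide))
  obtain ⟨s₂, hs₂H, hs₂⟩ := hH (h.e 0 2) (by
      intro v hv
      rw [h.om_e (by decide), ← hu0, ← hu2, hv, hv, zero_smul, zero_smul, sub_zero, sub_zero]) (by
      intro v hv
      obtain ⟨b, c, rfl⟩ := mem_pair.1 hv
      rw [Matrix.mulVec_add, Matrix.mulVec_smul, Matrix.mulVec_smul, h.e_self (by decide),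
        h.e_other (by decide) (by decide) (by decide)]
      exact Submodule.add_mem _ (Submodule.smul_mem _ _ (Submodule.neg_mem _ (left_mem_pl _ _)))
        (Submodule.smul_mem _ _ (right_mem_pl _ _))) (by
      intro v hv
      obtain ⟨b, c, rfl⟩ := mem_pair.1 hv
      have h3 : om (h.e 0 2) *ᵥ w 2 = -w 2 := by
        rw [h.om_e (by decide), h.orth 0 2 (by decide), polar_self', h.one, zero_smul, sub_zero, mul_one, two_smul]
        abel
      rw [Matrix.mulVec_add, Matrix.mulVec_smul, Matrix.mulVec_smul, h3, h.e_other (by decide) (by decide) (by decide)]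
      exact Submodule.add_mem _ (Submodule.smul_mem _ _ (Submodule.neg_mem _ (left_mem_pl _ _)))
        (Submodule.smul_mem _ _ (right_mem_pl _ _))) (hP_e 0 2 (by decide)) (hetriv 0 2 (by decide))
  -- a vector of the first plane with `Q w'` nonsquare
  obtain ⟨ν, hν⟩ : ∃ ν : F, ¬ IsSquare ν :=
    FiniteField.exists_nonsquare (ClassicalGeometry.Universal.ringChar_ne_two h2)
  have hν0 : ν ≠ 0 := by
    rintro rfl
    exact hν IsSquare.zero
  obtain ⟨r₁, r₂, hr⟩ := ClassicalGeometry.Universal.exists_sq_add_sq h2 (one_ne_zero : (1 : F) ≠ 0)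
    (one_ne_zero : (1 : F) ≠ 0) ν
  set w' : ι → F := r₁ • w 0 + r₂ • w 1 with hw'
  have hQw' : Q w' = ν := by
    rw [hw', map_smul_add _ _ (h.orth 0 1 (by decide)), h.one, h.one, ← hr]
    ring
  have hw'0 : Q w' ≠ 0 := by rw [hQw']; exact hν0
  have hw'E : w' ∈ pl w 0 1 := mem_pair.2 ⟨r₁, r₂, rfl⟩
  let f : Cfsg.isometryGroup F ⇑Q := reflIso Q (w 0) (h.ne 0) * reflIso Q w' hw'0 * (reflIso Q p hQp * reflIso Q p' hQp')
  have hfv : ∀ v, ((f : GL ι F) : Matrix ι ι F) *ᵥ v = ((reflIso Q (w 0) (h.ne 0) : GL ι F) : Matrix ι ι F) *ᵥ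
      (((reflIso Q w' hw'0 : GL ι F) : Matrix ι ι F) *ᵥ (((reflIso Q p hQp : GL ι F) : Matrix ι ι F) *ᵥ
      (((reflIso Q p' hQp' : GL ι F) : Matrix ι ι F) *ᵥ v))) := by
    intro v
    rw [coe_mul_mulVec, coe_mul_mulVec, coe_mul_mulVec]
  have hfO : f ∈ Cfsg.Omega F ⇑Q := by
    rw [S2609.mem_Omega_of_prod h2 h.hι Q h.nd f [w 0, w', p, p'] (by
      simp only [List.mem_cons, List.not_mem_nil, or_false, forall_eq_or_imp, forall_eq]
      exact ⟨h.ne _, hw'0, hQp, hQp'⟩) (by
      simp only [List.map_cons, List.map_nil, List.prod_cons, List.prod_nil, mul_one]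
      change (_ * _) * (_ * _) = _
      rw [mul_assoc]
      rfl)]
    refine ⟨⟨2, rfl⟩, ?_⟩
    simp only [List.map_cons, List.map_nil, List.prod_cons, List.prod_nil, h.one, one_mul, mul_one]
    rw [hQw', ClassicalGeometry.Universal.isSquare_mul_iff h2 hν0 (mul_ne_zero hQp hQp')]
    exact ⟨fun h => absurd h hν, fun h => absurd h hns⟩
  let f' : Cfsg.Omega F ⇑Q := ⟨f, hfO⟩
  have hf' : ∀ v, om f' *ᵥ v = ((f : GL ι F) : Matrix ι ι F) *ᵥ v := fun v => rfl
  have hw'p : ∀ v, polar Q (w 0) v = 0 → polar Q (w 1) v = 0 → polar Q w' v = 0 := by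
    intro v h3 h4
    rw [hw', polar_add_left, polar_smul_left, polar_smul_left, h3, h4, smul_zero, smul_zero, add_zero]
  have hfP : ∀ v ∈ P t, om f' *ᵥ v = -v := by
    intro v hv
    obtain ⟨b, c, rfl⟩ := hsp v hv
    rw [hf', hfv]
    have h3 : ((reflIso Q p hQp : GL ι F) : Matrix ι ι F) *ᵥ
      (((reflIso Q p' hQp' : GL ι F) : Matrix ι ι F) *ᵥ (b • p + c • p')) = -(b • p + c • p') := by
      rw [coe_reflIso, coe_reflIso, reflectionMatrix_mulVec, reflectionMatrix_mulVec, polar_right _ _ h0,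
        polar_sub_right, polar_smul_right, h0, smul_zero, sub_zero, polar_left _ _ h0]
      have e1 : (Q p')⁻¹ * (2 * Q p' * c) = 2 * c := by field_simp
      have e2 : (Q p)⁻¹ * (2 * Q p * b) = 2 * b := by field_simp
      rw [e1, e2]
      module
    have h4 := hPw _ ((P t).neg_mem hv)
    rw [h3, refl_fix hw'0 (hw'p _ (h4 0) (h4 1)), refl_fix (h.ne 0) (h4 0)]
  obtain ⟨s₃, hs₃H, hs₃⟩ := hH f' (by
      intro v hv
      have h3 : polar Q (w 0) v = 0 := hv 0
      have h4 : polar Q (w 1) v = 0 := hv 1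
      have h5 : polar Q p v = 0 := hv 3
      have h6 : polar Q p' v = 0 := hv 4
      rw [hf', hfv, refl_fix hQp' h6, refl_fix hQp h5, refl_fix hw'0 (hw'p _ h3 h4), refl_fix (h.ne 0) h3]) (by
      intro v hv
      have h5 : polar Q p v = 0 := by
        obtain ⟨b, c, rfl⟩ := mem_pair.1 hv
        rw [polar_add_right, polar_smul_right, polar_smul_right, hwp, hwp]
        simp
      have h6 : polar Q p' v = 0 := by
        obtain ⟨b, c, rfl⟩ := mem_pair.1 hv
        rw [polar_add_right, polar_smul_right, polar_smul_right, hwp', hwp']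
        simp
      rw [hf', hfv, refl_fix hQp' h6, refl_fix hQp h5]
      exact refl_mem_of _ (left_mem_pl _ _) (refl_mem_of _ hw'E hv)) (by
      intro v hv
      have h3 : polar Q (w 0) v = 0 := by
        obtain ⟨b, c, rfl⟩ := mem_pair.1 hv
        rw [polar_add_right, polar_smul_right, polar_smul_right, h.orth 0 2 (by decide), h.orth 0 3 (by decide)]
        simp
      have h4 : polar Q (w 1) v = 0 := by
        obtain ⟨b, c, rfl⟩ := mem_pair.1 hv
        rw [polar_add_right, polar_smul_right, polar_smul_right, h.orth 1 2 (by decide), h.orth 1 3 (by decide)]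
        simp
      have h5 : polar Q p v = 0 := by
        obtain ⟨b, c, rfl⟩ := mem_pair.1 hv
        rw [polar_add_right, polar_smul_right, polar_smul_right, hwp, hwp]
        simp
      have h6 : polar Q p' v = 0 := by
        obtain ⟨b, c, rfl⟩ := mem_pair.1 hv
        rw [polar_add_right, polar_smul_right, polar_smul_right, hwp', hwp']
        simp
      rw [hf', hfv, refl_fix hQp' h6, refl_fix hQp h5, refl_fix hw'0 (hw'p _ h3 h4), refl_fix (h.ne 0) h3]
      exact hv) (by
      intro v hv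
      rw [hfP v hv]
      exact (P t).neg_mem hv) (by
      have h3 : (f' * x⁻¹) • a = a := by
        apply h.triv D hNA _ hta
        intro v hv
        have hvP : v ∈ P t := mem_P.2 ((h.fix_iff v).2 hv)
        have h4 : om x⁻¹ *ᵥ v = -v := by
          apply om_injective x
          simp only
          rw [← om_mul, mul_inv_cancel, om_one, hx _ ((P t).neg_mem hvP), neg_neg]
        rw [om_mul, h4, hfP _ ((P t).neg_mem hvP), neg_neg]
      rw [mul_smul] at h3
      have h4 : x⁻¹ • a = a := by rw [inv_smul_eq_iff]; exact hxa.symm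
      rwa [h4] at h3)
  have hnat : ∀ y : K5 → F, (∀ s ∈ H, om s *ᵥ y = y) → y = 0 := by
    intro y hy
    have hJ : ∀ s ∈ H, om (S.embO s) *ᵥ S.J y = S.J y := by
      intro s hs
      have h3 : om (S.embO s) *ᵥ S.J y = S.J (om s *ᵥ y) := S.emb_J _ y
      rw [h3, hy s hs]
    set v := S.J y with hv
    have g1 := hJ s₁ hs₁H
    have g2 := hJ s₂ hs₂H
    have g3 := hJ s₃ hs₃H
    rw [hs₁] at g1
    rw [hs₂] at g2
    rw [hs₃] at g3
    have hpol : ∀ g : Cfsg.Omega F ⇑Q, om g *ᵥ v = v → ∀ b, om g *ᵥ b = -b → polar Q b v = 0 := by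
      intro g hg b hb
      have h3 := om_polar g b v
      rw [hg, hb, polar_neg_left] at h3
      have h4 : 2 * polar Q b v = 0 := by linear_combination -h3
      exact (mul_eq_zero.1 h4).resolve_left h2
    have c0 : polar Q (w 0) v = 0 := hpol _ g1 _ (h.e_self (by decide))
    have c1 : polar Q (w 1) v = 0 := hpol _ g1 _ (by
      rw [h.om_e (by decide), h.orth 0 1 (by decide), polar_self', h.one, zero_smul, sub_zero, mul_one, two_smul]
      abel)
    have c2 : polar Q (w 2) v = 0 := hpol _ g2 _ (by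
      rw [h.om_e (by decide), h.orth 0 2 (by decide), polar_self', h.one, zero_smul, sub_zero, mul_one, two_smul]
      abel)
    have hvu := hSu y
    have c345 : ∀ k : Fin 6, k ≠ 0 → k ≠ 1 → k ≠ 2 → polar Q (w k) v = 0 := by
      intro k k0 k1 k2
      obtain ⟨b, hb⟩ := exists_coeff hvu
      rw [hv, hb, polar_sum]
      refine Finset.sum_eq_zero fun i _ => ?_
      fin_cases i
      · exact mul_eq_zero_of_right _ (h.orth _ _ k0)
      · exact mul_eq_zero_of_right _ (h.orth _ _ k1)
      · exact mul_eq_zero_of_right _ (h.orth _ _ k2)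
      · exact mul_eq_zero_of_right _ (hpw _)
      · exact mul_eq_zero_of_right _ (hpw' _)
    have hvP : v ∈ P t := by
      apply mem_P.2
      rw [h.fix_iff]
      intro i
      fin_cases i
      · exact c0
      · exact c1
      · exact c2
      · exact c345 _ (by decide) (by decide) (by decide)
      · exact c345 _ (by decide) (by decide) (by decide)
      · exact c345 _ (by decide) (by decide) (by decide)
    rw [hfP v hvP] at g3
    have h3 : (2 : F) • v = 0 := by
      rw [two_smul]
      nth_rewrite 1 [← g3]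
      exact neg_add_cancel _
    have h4 : v = 0 := (smul_eq_zero.1 h3).resolve_left h2
    have h5 := S.pr_J y
    rw [← hv, h4, map_zero] at h5
    exact h5.symm
  have hfinal := D.nb' hNB (h.orderOf_e (i := 3) (j := 4) (by decide)) S hcomm H H' inf_le_left hH7 hnat a
    (hetriv 3 4 (by decide)) (fun s hs => hs.2)
  -- the element `d`
  obtain ⟨s, hs⟩ := hex d (fun v hv => hd v (hv 3) (hv 4))
  rw [← hs]
  apply hfinal
  refine ⟨⟨?_, ?_⟩, ?_⟩
  · rw [hs]
    apply mem_St
    intro v hv
    rw [hd v]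
    · exact hv
    · obtain ⟨b, c, rfl⟩ := mem_pair.1 hv
      rw [polar_add_right, polar_smul_right, polar_smul_right, hwp, hwp]
      simp
    · obtain ⟨b, c, rfl⟩ := mem_pair.1 hv
      rw [polar_add_right, polar_smul_right, polar_smul_right, hwp', hwp']
      simp
  · rw [hs]
    apply mem_St
    intro v hv
    rw [hd v]
    · exact hv
    · obtain ⟨b, c, rfl⟩ := mem_pair.1 hv
      rw [polar_add_right, polar_smul_right, polar_smul_right, hwp, hwp]
      simp
    · obtain ⟨b, c, rfl⟩ := mem_pair.1 hv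
      rw [polar_add_right, polar_smul_right, polar_smul_right, hwp', hwp']
      simp
  · rw [hs]
    apply mem_St
    intro v hv
    apply mem_P.2
    rw [h.fix_iff]
    intro i
    have h3 := om_polar d (w i) v
    rw [hd (w i) (hwp i) (hwp' i)] at h3
    rw [h3]
    exact hPw v hv i

end Fr

end Cfsg.Agent.H273.S69
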