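import Cfsg.Agent.H273.S69.Emb
import Cfsg.Agent.H377.Sign

/-!
# S3469, task T11 (helper273 for helper214): similarities attached to orthogonal families

* `exists_sim5` : 5 orthogonal vectors and `quadFormOdd 2`;
* `exists_sim6` : 6 orthonormal vectors and the sum of squares.
-/

set_option autoImplicit false
set_option linter.unusedSectionVars false
set_option linter.unusedVariables false

namespace Cfsg.Agent.H273.S69

open Module QuadraticMap Matrix Cfsg.Agent.LieClassical.OrthCore Cfsg.Agent.LieClassical.OmegaReindex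

/-- the index type of `quadFormOdd 2` -/
abbrev K5 := Unit ⊕ (Fin 2 ⊕ Fin 2)

/-- `quadFormOdd 2` as a quadratic form -/
def Q5 (F : Type*) [Field F] : QuadraticForm F (K5 → F) :=
  (quadOdd 2 F).copy (Cfsg.quadFormOdd 2 F) (coe_quadOdd (m := 2) (F := F)).symm

theorem coe_Q5 (F : Type*) [Field F] : ⇑(Q5 F) = Cfsg.quadFormOdd 2 F := rfl

theorem Q5_nondegenerate {F : Type*} [Field F] (h2 : (2 : F) ≠ 0) : (polarBilin (Q5 F)).Nondegenerate := by
  rw [Q5, QuadraticMap.copy_eq]
  exact quadOdd_nondegenerate h2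

/-- the sum of 6 squares -/
def Q6 (F : Type*) [Field F] : QuadraticForm F (Fin 6 → F) := QuadraticMap.weightedSumSquares F (fun _ => (1 : F))

theorem Q6_apply {F : Type*} [Field F] (z : Fin 6 → F) : Q6 F z = ∑ i, z i ^ 2 := by
  rw [Q6, QuadraticMap.weightedSumSquares_apply]
  refine Finset.sum_congr rfl fun i _ => ?_
  rw [one_smul, pow_two]

theorem polar_Q6 {F : Type*} [Field F] (z z' : Fin 6 → F) : polar (Q6 F) z z' = 2 * ∑ i, z i * z' i := by
  rw [polar, Q6_apply, Q6_apply, Q6_apply, Finset.mul_sum, ← Finset.sum_sub_distrib, ← Finset.sum_sub_distrib]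
  refine Finset.sum_congr rfl fun i _ => ?_
  rw [Pi.add_apply]
  ring

theorem Q6_nondeg {F : Type*} [Field F] (h2 : (2 : F) ≠ 0) : Nondeg (Q6 F) := by
  intro z hz
  funext i
  have h := hz (Pi.single i 1)
  rw [polar_Q6, Finset.sum_eq_single i (fun j _ hj => by rw [Pi.single_eq_of_ne hj, mul_zero])
    (fun h => absurd (Finset.mem_univ _) h), Pi.single_eq_same, mul_one] at h
  exact (mul_eq_zero.1 h).resolve_left h2

section

variable {F V : Type*} [Field F] [AddCommGroup V] [Module F V] {Q : QuadraticForm F V}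

theorem polar_sum {m : ℕ} (u : Fin m → V) (a : Fin m → F) (v : V) :
    polar Q v (∑ i, a i • u i) = ∑ i, a i * polar Q v (u i) := by
  have := map_sum (polarBilin Q v) (fun i => a i • u i) Finset.univ
  simp only [map_smul, smul_eq_mul] at this
  exact this

theorem map_sum_orth {m : ℕ} (u : Fin m → V) (horth : ∀ i j, i ≠ j → polar Q (u i) (u j) = 0) (a : Fin m → F) :
    Q (∑ i, a i • u i) = ∑ i, a i ^ 2 * Q (u i) := by
  induction m with
  | zero => simp
  | succ m ih =>
    rw [Fin.sum_univ_succ, Fin.sum_univ_succ, Q_add, QuadraticMap.map_smul,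
      ih (fun i => u i.succ) (fun i j hij => horth _ _ (fun h => hij (Fin.succ_injective _ h))) (fun i => a i.succ),
      polar_sum, smul_eq_mul, pow_two]
    have h1 : ∑ i : Fin m, a i.succ * polar Q (a 0 • u 0) (u i.succ) = 0 := by
      apply Finset.sum_eq_zero
      intro i _
      rw [polar_smul_left, horth _ _ (Fin.succ_ne_zero i).symm, smul_zero, mul_zero]
    rw [h1, add_zero]

theorem linearIndependent_orth (h2 : (2 : F) ≠ 0) {m : ℕ} (u : Fin m → V)
    (horth : ∀ i j, i ≠ j → polar Q (u i) (u j) = 0) (hne : ∀ i, Q (u i) ≠ 0) : LinearIndependent F u := by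
  rw [Fintype.linearIndependent_iff]
  intro a ha i
  have h1 := congrArg (polar Q (u i)) ha
  rw [polar_sum, Finset.sum_eq_single i (fun j _ hj => by rw [horth i j hj.symm, mul_zero])
    (fun h => absurd (Finset.mem_univ _) h), polar_self'] at h1
  have h3 : polar Q (u i) 0 = 0 := by simp [polar]
  rw [h3] at h1
  exact (mul_eq_zero.1 h1).resolve_right (mul_ne_zero h2 (hne i))

theorem exists_coeff {m : ℕ} {u : Fin m → V} {v : V} (hv : v ∈ Submodule.span F (Set.range u)) :
    ∃ a : Fin m → F, v = ∑ i, a i • u i := by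
  obtain ⟨a, ha⟩ := (Submodule.mem_span_range_iff_exists_fun F).1 hv
  exact ⟨a, ha.symm⟩

theorem ndOn_span (h2 : (2 : F) ≠ 0) {m : ℕ} (u : Fin m → V)
    (horth : ∀ i j, i ≠ j → polar Q (u i) (u j) = 0) (hne : ∀ i, Q (u i) ≠ 0) :
    NdOn Q (Submodule.span F (Set.range u)) := by
  intro v hv h
  obtain ⟨a, rfl⟩ := exists_coeff hv
  have ha : ∀ i, a i = 0 := by
    intro i
    have h1 := h (u i) (Submodule.subset_span ⟨i, rfl⟩)
    rw [polar_comm, polar_sum, Finset.sum_eq_single i (fun j _ hj => by rw [horth i j hj.symm, mul_zero])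
      (fun h => absurd (Finset.mem_univ _) h), polar_self'] at h1
    exact (mul_eq_zero.1 h1).resolve_right (mul_ne_zero h2 (hne i))
  exact Finset.sum_eq_zero fun i _ => by rw [ha i, zero_smul]

/-- Another orthogonal basis of the span, with given values. -/
theorem exists_change [Finite F] (h2 : (2 : F) ≠ 0) {m : ℕ} (u : Fin m → V)
    (horth : ∀ i j, i ≠ j → polar Q (u i) (u j) = 0) (hne : ∀ i, Q (u i) ≠ 0) (d : Fin m → F) (hd : ∀ i, d i ≠ 0)
    (s : F) (hs : ∏ i, Q (u i) = s ^ 2 * ∏ i, d i) :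
    ∃ w : Fin m → V, (∀ i, w i ∈ Submodule.span F (Set.range u)) ∧ (∀ i, u i ∈ Submodule.span F (Set.range w)) ∧
      (∀ i j, i ≠ j → polar Q (w i) (w j) = 0) ∧ ∀ i, Q (w i) = d i := by
  have hfi := Fintype.ofFinite F
  set U := Submodule.span F (Set.range u) with hU
  have hli := linearIndependent_orth h2 u horth hne
  let b : Basis (Fin m) F U := Basis.span hli
  have hb : ∀ i, ((b i : U) : V) = u i := fun i => congrArg Subtype.val (Basis.span_apply hli i)
  have hfr : finrank F U = m := by rw [finrank_eq_card_basis b, Fintype.card_fin]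
  have : FiniteDimensional F U := Module.Finite.of_basis b
  have hS : LinearMap.BilinForm.IsSymm (LinearMap.BilinForm.restrict (polarBilin Q) U) :=
    ⟨fun x y => polar_comm (⇑Q) (x : V) y⟩
  have hmat : LinearMap.BilinForm.toMatrix b (LinearMap.BilinForm.restrict (polarBilin Q) U) =
      Matrix.diagonal fun i => 2 * Q (u i) := by
    ext i j
    rw [LinearMap.BilinForm.toMatrix_apply, Matrix.diagonal_apply]
    change polar (⇑Q) (b i : V) (b j) = _
    rw [hb, hb]
    split_ifs with hij
    · subst hij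
      rw [polar_self']
    · exact horth i j hij
  obtain ⟨w, hw⟩ := ClassicalGeometry.Discriminant.exists_basis_diag h2
    (LinearMap.BilinForm.restrict (polarBilin Q) U) hS (ndOn_span h2 u horth hne).nondegenerate b
    (fun i => 2 * d i) (by rw [Fintype.card_fin, hfr]) (fun i => mul_ne_zero h2 (hd i)) s (by
      rw [hmat, Matrix.det_diagonal, Finset.prod_mul_distrib, Finset.prod_mul_distrib, hs]
      ring)
  have hww : ∀ i j, polar Q (w i : V) (w j) = if i = j then 2 * d i else 0 := hw
  refine ⟨fun i => w i, fun i => (w i).2, fun i => ?_, fun i j hij => ?_, fun i => ?_⟩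
  · have h1 := w.sum_repr (b i)
    have h3 := congrArg Subtype.val h1
    rw [hb] at h3
    rw [← h3, AddSubmonoidClass.coe_finsetSum]
    exact Submodule.sum_mem _ fun j _ => Submodule.smul_mem _ _ (Submodule.subset_span ⟨j, rfl⟩)
  · have := hww i j
    rwa [if_neg hij] at this
  · have := hww i i
    rw [if_pos rfl, polar_self'] at this
    exact mul_left_cancel₀ h2 this

end

section

variable {F : Type*} [Field F] [Finite F] {ι : Type} [Fintype ι] [DecidableEq ι] {Q : QuadraticForm F (ι → F)}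

/-- 5 orthogonal vectors -/
theorem exists_sim5 (h2 : (2 : F) ≠ 0) (u : Fin 5 → ι → F) (horth : ∀ i j, i ≠ j → polar Q (u i) (u j) = 0)
    (hne : ∀ i, Q (u i) ≠ 0) : ∃ S : Sim (Q5 F) Q, (∀ z, S.J z ∈ Submodule.span F (Set.range u)) ∧
      ∀ i, ∃ z, S.J z = u i := by
  set c := ∏ i, Q (u i) with hc
  have hc0 : c ≠ 0 := Finset.prod_ne_zero_iff.2 fun i _ => hne i
  obtain ⟨w, hwu, huw, hworth, hwd⟩ := exists_change h2 u horth hne
    (![c, c, -c, c, -c]) (by
      intro i
      fin_cases i
      · exact hc0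
      · exact hc0
      · exact neg_ne_zero.2 hc0
      · exact hc0
      · exact neg_ne_zero.2 hc0) (c⁻¹ ^ 2) (by
      rw [← hc]
      simp only [Fin.prod_univ_succ, Matrix.cons_val_zero, Matrix.cons_val_succ, Finset.univ_eq_empty,
        Finset.prod_empty, Fin.prod_univ_zero]
      field_simp)
  let L : (K5 → F) →ₗ[F] (Fin 5 → F) :=
    { toFun := fun z => ![z (.inl ()), (z (.inr (.inl 0)) + z (.inr (.inr 0))) / 2,
        (z (.inr (.inl 0)) - z (.inr (.inr 0))) / 2, (z (.inr (.inl 1)) + z (.inr (.inr 1))) / 2,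
        (z (.inr (.inl 1)) - z (.inr (.inr 1))) / 2]
      map_add' := fun x y => by
        funext i
        fin_cases i <;> simp <;> ring
      map_smul' := fun a x => by
        funext i
        fin_cases i <;> simp <;> ring }
  let J : (K5 → F) →ₗ[F] (ι → F) := (Fintype.linearCombination F w) ∘ₗ L
  have hJ : ∀ z, J z = ∑ i, L z i • w i := fun z => rfl
  have hJQ : ∀ z, Q (J z) = c * Q5 F z := by
    intro z
    rw [hJ, map_sum_orth w hworth, coe_Q5, Cfsg.quadFormOdd]
    simp only [hwd, L, LinearMap.coe_mk, AddHom.coe_mk, Fin.sum_univ_succ, Matrix.cons_val_zero, Matrix.cons_val_succ,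
      Fin.sum_univ_zero, Fin.sum_univ_two]
    have h4 : (4 : F) ≠ 0 := by
      have : (4 : F) = 2 * 2 := by norm_num
      rw [this]
      exact mul_ne_zero h2 h2
    have h1 : ∀ a b : F, ((a + b) / 2) ^ 2 = (a - b) ^ 2 / 4 + a * b := by
      intro a b
      field_simp
      ring
    have h3 : ∀ a b : F, ((a - b) / 2) ^ 2 = (a - b) ^ 2 / 4 := by
      intro a b
      rw [div_pow]
      norm_num
    simp only [Fin.succ_zero_eq_one, Fin.succ_one_eq_two, h1, h3]
    ring
  obtain ⟨S, hSJ, hSc⟩ := Sim.exists_of (Q5_nondegenerate h2) J hc0 hJQ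
  refine ⟨S, ?_, ?_⟩
  · intro z
    rw [hSJ, hJ]
    exact Submodule.sum_mem _ fun i _ => Submodule.smul_mem _ _ (hwu i)
  · intro i
    obtain ⟨a, ha⟩ := exists_coeff (huw i)
    refine ⟨Sum.elim (fun _ => a 0) (Sum.elim ![a 1 + a 2, a 3 + a 4] ![a 1 - a 2, a 3 - a 4]), ?_⟩
    rw [hSJ, hJ, ha]
    refine Finset.sum_congr rfl fun j _ => ?_
    congr 1
    fin_cases j
    · simp [L]
    · simp [L]; field_simp; ring
    · simp [L]; field_simp; ring
    · simp [L]; field_simp; ring
    · simp [L]; field_simp; ring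

/-- 6 orthonormal vectors -/
theorem exists_sim6 (h2 : (2 : F) ≠ 0) (w : Fin 6 → ι → F) (horth : ∀ i j, i ≠ j → polar Q (w i) (w j) = 0)
    (hone : ∀ i, Q (w i) = 1) : ∃ S : Sim (Q6 F) Q, ∀ z, S.J z = ∑ i, z i • w i := by
  let J : (Fin 6 → F) →ₗ[F] (ι → F) := Fintype.linearCombination F w
  have hJ : ∀ z, J z = ∑ i, z i • w i := fun z => rfl
  obtain ⟨S, hSJ, -⟩ := Sim.exists_of (Q := Q) (H377.nondegenerate_of_nondeg (Q6_nondeg h2)) J
    (one_ne_zero : (1 : F) ≠ 0) (by
      intro z
      rw [hJ, map_sum_orth w horth, Q6_apply, one_mul]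
      refine Finset.sum_congr rfl fun i _ => ?_
      rw [hone, mul_one])
  exact ⟨S, fun z => by rw [hSJ, hJ]⟩

end

end Cfsg.Agent.H273.S69
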