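import Mathlib

/-!
# S3469, task T11 (helper273 for helper214): permutations

* `natCard_modEq` : fixed points of a map of prime power order;
* `orderOf_dvd_natCard` : a permutation all of whose nontrivial powers have no fixed points;
* `sign_eq_neg_one` : sign of a permutation with an odd number of cycles of length `2 ^ k` (and fixed points).
-/

set_option autoImplicit false

namespace Cfsg.Agent.H273.S69

/-- Number of fixed points of a map of prime power order. -/
theorem natCard_modEq {α : Type*} [Finite α] {r k : ℕ} (hr : r.Prime) (f : α → α) (hf : ∀ a, f^[r ^ k] a = a) :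
    Nat.card α ≡ Nat.card {a // f a = a} [MOD r] := by
  classical
  have := Fintype.ofFinite α
  have : Fact r.Prime := ⟨hr⟩
  let F : Function.End α := f
  have hF : F ^ r ^ k = 1 := by
    funext a
    have h1 : (F ^ r ^ k : Function.End α) = f^[r ^ k] :=
      hom_coe_pow (fun g : Function.End α => (g : α → α)) rfl (fun g h => rfl) F (r ^ k)
    rw [h1, hf a]
    rfl
  have h := Equiv.Perm.card_fixedPoints_modEq (f := F) (p := r) (n := k) hF
  rw [Nat.card_eq_fintype_card, Nat.card_eq_fintype_card]
  convert h using 1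
  exact Fintype.card_congr (Equiv.refl _)

/-- If all powers of `f` with a fixed point are trivial then the order of `f` divides the number of points. -/
theorem orderOf_dvd_natCard {α : Type*} [Finite α] (f : Equiv.Perm α)
    (hf : ∀ k : ℕ, ∀ a, (f ^ k) a = a → f ^ k = 1) : orderOf f ∣ Nat.card α := by
  classical
  have hst : ∀ a : α, MulAction.stabilizer (Subgroup.zpowers f) a = ⊥ := by
    intro a
    rw [Subgroup.eq_bot_iff_forall]
    rintro ⟨g, hg⟩ hga
    obtain ⟨k, rfl⟩ := (mem_zpowers_iff_mem_range_orderOf.trans Finset.mem_image).1 hg |>.imp fun _ h => h.2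
    apply Subtype.ext
    exact hf k a hga
  have e := MulAction.selfEquivOrbitsQuotientProd (G := Subgroup.zpowers f) (X := α) hst
  rw [Nat.card_congr e, Nat.card_prod, Nat.card_zpowers]
  exact Dvd.intro_left _ rfl

/-- The sign of a permutation with an odd number of cycles of length `2 ^ k` and fixed points. -/
theorem sign_eq_neg_one {α : Type*} [Fintype α] [DecidableEq α] (f : Equiv.Perm α) {k c : ℕ} (hk : 1 ≤ k)
    (hf : f ^ 2 ^ k = 1) (hfix : ∀ a, (f ^ 2 ^ (k - 1)) a = a → f a = a) (hc : Odd c)
    (hcard : f.support.card = 2 ^ k * c) : Equiv.Perm.sign f = -1 := by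
  have hall : ∀ n ∈ f.cycleType, n = 2 ^ k := by
    intro n hn
    rw [Equiv.Perm.cycleType_def, Multiset.mem_map] at hn
    obtain ⟨σ, hσ, rfl⟩ := hn
    rw [← Finset.mem_def, Equiv.Perm.mem_cycleFactorsFinset_iff] at hσ
    change σ.support.card = 2 ^ k
    have hpow : ∀ j : ℕ, ∀ a ∈ σ.support, (f ^ j) a = (σ ^ j) a := by
      intro j
      induction j with
      | zero => intro a _; rfl
      | succ j ih =>
        intro a ha
        rw [pow_succ', pow_succ', Equiv.Perm.mul_apply, Equiv.Perm.mul_apply, ih a ha]
        exact (hσ.2 _ (by rwa [Equiv.Perm.pow_apply_mem_support])).symm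
    have h1 : orderOf σ ∣ 2 ^ k := by
      rw [orderOf_dvd_iff_pow_eq_one]
      ext a
      by_cases ha : a ∈ σ.support
      · rw [← hpow _ a ha, hf]
      · have h3 : σ a = a := by simpa using ha
        rw [Equiv.Perm.pow_apply_eq_self_of_apply_eq_self h3]
        rfl
    rw [hσ.1.orderOf] at h1
    obtain ⟨j, hj, hj'⟩ := (Nat.dvd_prime_pow Nat.prime_two).1 h1
    rw [hj']
    congr 1
    by_contra hne
    have hjk : j ≤ k - 1 := by omega
    obtain ⟨a, ha⟩ : σ.support.Nonempty := by
      rw [← Finset.card_pos, hj']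
      positivity
    have h3 : (f ^ 2 ^ (k - 1)) a = a := by
      rw [hpow _ a ha]
      have h4 : σ ^ 2 ^ (k - 1) = 1 := by
        rw [← orderOf_dvd_iff_pow_eq_one, hσ.1.orderOf, hj']
        exact pow_dvd_pow 2 hjk
      rw [h4]
      rfl
    have h5 := hfix a h3
    have h6 : σ a ≠ a := by simpa using ha
    apply h6
    rw [hσ.2 a ha, h5]
  have hrep := Multiset.eq_replicate_of_mem hall
  have hsum := Equiv.Perm.sum_cycleType f
  rw [hrep, Multiset.sum_replicate, smul_eq_mul, hcard, mul_comm] at hsum
  have hcc : Multiset.card f.cycleType = c := Nat.eq_of_mul_eq_mul_left (by positivity) hsum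
  rw [Equiv.Perm.sign_of_cycleType, Equiv.Perm.sum_cycleType, hcc, hcard]
  apply Odd.neg_one_pow
  have h2 : Even (2 ^ k * c) := (Nat.even_pow.2 ⟨even_two, by omega⟩).mul_right c
  exact h2.add_odd hc

end Cfsg.Agent.H273.S69
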