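import Cfsg.Agent.H273.S69.Lin
import Cfsg.Agent.H273.S69.Conic

/-!
# S3469, task T11 (helper273 for helper214): nondegenerate planes

* `exists_orth_basis` : orthogonal bases of nondegenerate planes;
* `card_plane` : number of vectors with `Q v = 1` in a nondegenerate plane;
* `sq_eq_of_plane` : isometries of a plane whose order has no common divisor > 2 with this number.
-/

set_option autoImplicit false
set_option linter.unusedSectionVars false
set_option linter.unusedVariables false

namespace Cfsg.Agent.H273.S69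

open Module QuadraticMap Cfsg.Agent.LieClassical.OrthCore

variable {F V : Type*} [Field F] [AddCommGroup V] [Module F V] {Q : QuadraticForm F V}

theorem map_smul_add (a c : F) {p p' : V} (h : polar Q p p' = 0) : Q (a • p + c • p') = a ^ 2 * Q p + c ^ 2 * Q p' := by
  rw [Q_add, QuadraticMap.map_smul, QuadraticMap.map_smul, polar_smul_left, polar_smul_right, h]
  simp only [smul_eq_mul, mul_zero, add_zero]
  ring

theorem polar_left (a c : F) {p p' : V} (h : polar Q p p' = 0) : polar Q p (a • p + c • p') = 2 * Q p * a := by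
  rw [polar_add_right, polar_smul_right, polar_smul_right, h, polar_self']
  simp only [smul_eq_mul, mul_zero, add_zero]
  ring

theorem polar_right (a c : F) {p p' : V} (h : polar Q p p' = 0) : polar Q p' (a • p + c • p') = 2 * Q p' * c := by
  rw [polar_add_right, polar_smul_right, polar_smul_right, polar_comm Q p' p, h, polar_self']
  simp only [smul_eq_mul, mul_zero, zero_add]
  ring

/-- The orthogonal complement of a nonsingular vector in a nondegenerate plane. -/
theorem exists_perp [FiniteDimensional F V] (h2 : (2 : F) ≠ 0) {P : Submodule F V} (hnd : NdOn Q P)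
    (hd : finrank F P = 2) {p : V} (hp : p ∈ P) (hQp : Q p ≠ 0) :
    ∃ p' ∈ P, Q p' ≠ 0 ∧ polar Q p p' = 0 ∧ ∀ v ∈ P, ∃ a c : F, v = a • p + c • p' := by
  obtain ⟨e, heP, he⟩ : ∃ e ∈ P, e ∉ Submodule.span F {p} := by
    by_contra hcon
    push Not at hcon
    have h1 : finrank F P ≤ finrank F (Submodule.span F {p}) := Submodule.finrank_mono hcon
    have h3 := finrank_span_le_card (R := F) ({p} : Set V)
    rw [Set.toFinset_card, Set.card_singleton] at h3
    omega
  set p' := e - (polar Q p e / (2 * Q p)) • p with hp'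
  have hp'P : p' ∈ P := P.sub_mem heP (P.smul_mem _ hp)
  have horth : polar Q p p' = 0 := by
    rw [hp', polar_sub_right, polar_smul_right, polar_self', smul_eq_mul, div_mul_cancel₀ _ (mul_ne_zero h2 hQp),
      sub_self]
  have hp'0 : p' ≠ 0 := by
    intro h
    apply he
    rw [hp', sub_eq_zero] at h
    rw [h]
    exact Submodule.smul_mem _ _ (Submodule.mem_span_singleton_self p)
  have hli : LinearIndependent F ![p, p'] := by
    rw [LinearIndependent.pair_iff]
    intro a c hac
    have h1 := polar_left a c horth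
    rw [hac] at h1
    have h3 : polar Q p 0 = 0 := by simp [polar]
    rw [h3] at h1
    have ha : a = 0 := (mul_eq_zero.1 h1.symm).resolve_left (mul_ne_zero h2 hQp)
    rw [ha, zero_smul, zero_add] at hac
    exact ⟨ha, (smul_eq_zero.1 hac).resolve_right hp'0⟩
  have hspan : Submodule.span F (Set.range ![p, p']) = P := by
    apply Submodule.eq_of_le_of_finrank_eq
    · rw [Submodule.span_le]
      rintro _ ⟨i, rfl⟩
      fin_cases i
      · exact hp
      · exact hp'P
    · rw [finrank_span_eq_card hli, Fintype.card_fin, hd]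
  have hsp : ∀ v ∈ P, ∃ a c : F, v = a • p + c • p' := by
    intro v hv
    rw [← hspan, Matrix.range_cons, Matrix.range_cons, Matrix.range_empty, Set.union_empty] at hv
    have hv' : v ∈ Submodule.span F {p, p'} := hv
    obtain ⟨a, c, h⟩ := Submodule.mem_span_pair.1 hv'
    exact ⟨a, c, h.symm⟩
  refine ⟨p', hp'P, ?_, horth, hsp⟩
  intro h0
  apply hp'0
  apply hnd p' hp'P
  intro w hw
  obtain ⟨a, c, rfl⟩ := hsp w hw
  rw [polar_right a c horth, h0]
  ring

/-- Orthogonal bases of nondegenerate planes. -/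
theorem exists_orth_basis [FiniteDimensional F V] (h2 : (2 : F) ≠ 0) {P : Submodule F V} (hnd : NdOn Q P)
    (hd : finrank F P = 2) : ∃ p ∈ P, ∃ p' ∈ P, Q p ≠ 0 ∧ Q p' ≠ 0 ∧ polar Q p p' = 0 ∧
      ∀ v ∈ P, ∃ a c : F, v = a • p + c • p' := by
  obtain ⟨p, hp, hQp⟩ : ∃ p ∈ P, Q p ≠ 0 := by
    by_contra hcon
    push Not at hcon
    have h1 : P = ⊥ := by
      rw [eq_bot_iff]
      intro v hv
      refine (Submodule.mem_bot F).2 (hnd v hv fun w hw => ?_)
      rw [polar, hcon _ (P.add_mem hv hw), hcon _ hv, hcon _ hw]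
      ring
    rw [h1, finrank_bot] at hd
    omega
  obtain ⟨p', h1, h3, h4, h5⟩ := exists_perp h2 hnd hd hp hQp
  exact ⟨p, hp, p', h1, hQp, h3, h4, h5⟩

/-- Number of vectors with `Q v = 1` in a plane. -/
theorem card_plane [Fintype F] [DecidableEq F] (h2 : (2 : F) ≠ 0) {P : Submodule F V} {p p' : V} (hp : p ∈ P)
    (hp' : p' ∈ P) (hQp : Q p ≠ 0) (hQp' : Q p' ≠ 0) (h0 : polar Q p p' = 0)
    (hsp : ∀ v ∈ P, ∃ a c : F, v = a • p + c • p') :
    (Nat.card {v : V // v ∈ P ∧ Q v = 1} : ℤ) = Fintype.card F - quadraticChar F (-(Q p * Q p')) := by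
  rw [← card_diag h2 hQp hQp']
  congr 1
  refine (Nat.card_congr (Equiv.ofBijective
    (fun x : {x : F × F // Q p * x.1 ^ 2 + Q p' * x.2 ^ 2 = 1} =>
      (⟨x.1.1 • p + x.1.2 • p', P.add_mem (P.smul_mem _ hp) (P.smul_mem _ hp'), by
        rw [map_smul_add _ _ h0]
        exact Eq.trans (by ring) x.2⟩ : {v : V // v ∈ P ∧ Q v = 1})) ⟨?_, ?_⟩)).symm
  · intro x y hxy
    have h1 := congrArg Subtype.val hxy
    simp only at h1
    have h3 := congrArg (polar Q p) h1
    have h4 := congrArg (polar Q p') h1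
    rw [polar_left _ _ h0, polar_left _ _ h0] at h3
    rw [polar_right _ _ h0, polar_right _ _ h0] at h4
    apply Subtype.ext
    apply Prod.ext
    · exact mul_left_cancel₀ (mul_ne_zero h2 hQp) h3
    · exact mul_left_cancel₀ (mul_ne_zero h2 hQp') h4
  · rintro ⟨v, hv, hv1⟩
    obtain ⟨a, c, rfl⟩ := hsp v hv
    refine ⟨⟨(a, c), ?_⟩, rfl⟩
    rw [map_smul_add _ _ h0] at hv1
    rw [← hv1]
    ring

/-- An isometry of a plane fixing a nonsingular vector. -/
theorem perp_cases (h2 : (2 : F) ≠ 0) {P : Submodule F V} {p p' : V} (hp' : p' ∈ P) (hQp : Q p ≠ 0) (hQp' : Q p' ≠ 0)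
    (h0 : polar Q p p' = 0) (hsp : ∀ v ∈ P, ∃ a c : F, v = a • p + c • p') {g : V ≃ₗ[F] V} (hg : g ∈ O Q)
    (hgP : ∀ v ∈ P, g v ∈ P) {e : F} (he : e * e = 1) (hgp : g p = e • p) : ∃ e' : F, e' * e' = 1 ∧ g p' = e' • p' := by
  obtain ⟨a, c, hac⟩ := hsp _ (hgP p' hp')
  have he0 : e ≠ 0 := by
    rintro rfl
    simp at he
  have h1 := polar_map hg p p'
  rw [hgp, hac, polar_smul_left, polar_left _ _ h0, h0, smul_eq_mul] at h1
  have ha : a = 0 := by
    rcases mul_eq_zero.1 h1 with h | h
    · exact absurd h he0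
    · exact (mul_eq_zero.1 h).resolve_left (mul_ne_zero h2 hQp)
  rw [ha, zero_smul, zero_add] at hac
  refine ⟨c, ?_, hac⟩
  have h3 := mem_O.1 hg p'
  rw [hac, QuadraticMap.map_smul, smul_eq_mul] at h3
  exact mul_right_cancel₀ hQp' (by rw [h3, one_mul])

/-- Isometries of a plane whose order has no common divisor `> 2` with the number of vectors with `Q v = 1`. -/
theorem sq_eq_of_plane [Finite F] [FiniteDimensional F V] (h2 : (2 : F) ≠ 0) {P : Submodule F V} (hnd : NdOn Q P)
    (hd : finrank F P = 2) {b : V ≃ₗ[F] V} (hb : b ∈ O Q) (hbP : ∀ v ∈ P, b v ∈ P) {n : ℕ}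
    (hn : ∀ v ∈ P, (b ^ n) v = v) (hgcd : Nat.gcd n (Nat.card {v : V // v ∈ P ∧ Q v = 1}) ∣ 2)
    (hne : Nat.card {v : V // v ∈ P ∧ Q v = 1} ≠ 0) : ∀ v ∈ P, b (b v) = v := by
  by_contra hcon
  have : Finite V := Module.finite_of_finite F
  -- powers of `b` with a fixed point
  have hA : ∀ k : ℕ, ∀ p ∈ P, Q p = 1 → (b ^ k) p = p → ∀ v ∈ P, (b ^ k) v = v := by
    intro k p hp hQp1 hkp
    have hQp : Q p ≠ 0 := by rw [hQp1]; exact one_ne_zero
    obtain ⟨p', hp', hQp', h0, hsp⟩ := exists_perp h2 hnd hd hp hQp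
    have hg : b ^ k ∈ O Q := (O Q).pow_mem hb k
    have hgP : ∀ v ∈ P, (b ^ k) v ∈ P := pow_map_mem hbP k
    obtain ⟨e', he', hgp'⟩ := perp_cases h2 hp' hQp hQp' h0 hsp hg hgP (one_mul (1 : F)) (by rw [hkp, one_smul])
    have hee : (e' - 1) * (e' + 1) = 0 := by linear_combination he'
    rcases mul_eq_zero.1 hee with h | h
    · have he1 : e' = 1 := by linear_combination h
      intro v hv
      obtain ⟨a, c, rfl⟩ := hsp v hv
      rw [map_add, map_smul, map_smul, hkp, hgp', he1, one_smul]
    · exfalso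
      have he1 : e' = -1 := by linear_combination h
      rw [he1, neg_one_smul] at hgp'
      apply hcon
      -- `b p` is fixed by `b ^ k`
      have hcomm : ∀ v, (b ^ k) (b v) = b ((b ^ k) v) := by
        intro v
        rw [← LinearEquiv.mul_apply, ← LinearEquiv.mul_apply, ← pow_succ, ← pow_succ']
      obtain ⟨a, c, hac⟩ := hsp _ (hbP p hp)
      have h1 := hcomm p
      rw [hkp, hac, map_add, map_smul, map_smul, hkp, hgp', smul_neg] at h1
      have h3 : (2 : F) • (c • p') = 0 := by
        rw [two_smul]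
        have h4 : -(c • p') = c • p' := add_left_cancel h1
        nth_rewrite 1 [← h4]
        exact neg_add_cancel _
      have hc : c • p' = 0 := (smul_eq_zero.1 h3).resolve_left h2
      rw [hc, add_zero] at hac
      have haa : a * a = 1 := by
        have h4 := mem_O.1 hb p
        rw [hac, QuadraticMap.map_smul, smul_eq_mul] at h4
        exact mul_right_cancel₀ hQp (by rw [h4, one_mul])
      obtain ⟨a', haa', hbp'⟩ := perp_cases h2 hp' hQp hQp' h0 hsp hb hbP haa hac
      intro v hv
      obtain ⟨x, y, rfl⟩ := hsp v hv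
      simp only [map_add, map_smul, hac, hbp', smul_smul]
      rw [mul_assoc x, haa, mul_assoc y, haa', mul_one, mul_one]
  -- the permutation of the vectors with `Q v = 1`
  let X := {v : V // v ∈ P ∧ Q v = 1}
  have hbinv : ∀ v ∈ P, b.symm v ∈ P := by
    intro v hv
    have h1 : P.map (b : V →ₗ[F] V) = P := by
      apply Submodule.eq_of_le_of_finrank_eq
      · rintro _ ⟨w, hw, rfl⟩
        exact hbP w hw
      · exact LinearEquiv.finrank_map_eq b P
    rw [← h1] at hv
    obtain ⟨w, hw, hwv⟩ := hv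
    rw [← hwv]
    change b.symm (b w) ∈ P
    rw [b.symm_apply_apply]
    exact hw
  let f : Equiv.Perm X :=
    { toFun := fun v => ⟨b v, hbP v v.2.1, by rw [mem_O.1 hb]; exact v.2.2⟩
      invFun := fun v => ⟨b.symm v, hbinv v v.2.1, by
        have h1 := mem_O.1 hb (b.symm (v : V))
        rw [b.apply_symm_apply] at h1
        rw [← h1]; exact v.2.2⟩
      left_inv := fun v => Subtype.ext (b.symm_apply_apply _)
      right_inv := fun v => Subtype.ext (b.apply_symm_apply _) }
  have hfk : ∀ k : ℕ, ∀ v : X, (((f ^ k) v : X) : V) = (b ^ k) (v : V) := by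
    intro k
    induction k with
    | zero => intro v; rfl
    | succ k ih =>
      intro v
      rw [pow_succ', Equiv.Perm.mul_apply, pow_succ', LinearEquiv.mul_apply, ← ih]
      rfl
  have hfA : ∀ k : ℕ, ∀ a, (f ^ k) a = a → f ^ k = 1 := by
    intro k a ha
    ext v
    rw [hfk]
    apply hA k a a.2.1 a.2.2 _ _ v.2.1
    rw [← hfk, ha]
  have h1 : orderOf f ∣ Nat.card X := orderOf_dvd_natCard f hfA
  have h3 : orderOf f ∣ n := by
    rw [orderOf_dvd_iff_pow_eq_one]
    ext v
    rw [hfk]
    exact hn v v.2.1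
  have h4 : orderOf f ∣ 2 := (Nat.dvd_gcd h3 h1).trans hgcd
  rw [orderOf_dvd_iff_pow_eq_one] at h4
  have : Nonempty X := by
    by_contra hX
    rw [not_nonempty_iff] at hX
    exact hne Nat.card_of_isEmpty
  obtain ⟨p⟩ := this
  apply hcon
  have h5 := hA 2 p p.2.1 p.2.2 (by rw [← hfk, h4]; rfl)
  intro v hv
  have h6 := h5 v hv
  rw [pow_two, LinearEquiv.mul_apply] at h6
  exact h6

end Cfsg.Agent.H273.S69
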