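import Cfsg.Agent.H273.S69.Triv
import Cfsg.Agent.ClassicalGeometry.NonsplitTorus

/-!
# S3469, task T11 (helper273 for helper214): rotations of a nondegenerate plane

* `exists_trace` : an element of order `q + ε` in a field extension with trace in `F`;
* `exists_rot` : two vectors of the plane whose product of reflections has order `q + ε`.
-/

set_option autoImplicit false
set_option linter.unusedSectionVars false
set_option linter.unusedVariables false

namespace Cfsg.Agent.H273.S69

open Module QuadraticMap Matrix Cfsg.Agent.LieClassical.OrthCore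
open Cfsg.Agent.LieClassical.OrthFinite (isometryHom isometryHom_apply isometryHom_injective)
open Cfsg.Agent.ClassicalGeometry.Reflection (reflIso coe_reflIso reflectionMatrix_mulVec coe_mul_mulVec
  isometryGroup_ext)

/-- coefficients of the powers of an element with `x ^ 2 = τ x - 1` -/
def seq {F : Type*} [Field F] (τ : F) : ℕ → F × F
  | 0 => (0, 1)
  | k + 1 => (τ * (seq τ k).1 + (seq τ k).2, -(seq τ k).1)

/-- An element of order `q + ε` of a field extension whose trace lies in `F`. -/
theorem exists_trace {F : Type} [Field F] [Fintype F] [DecidableEq F] (h2 : (2 : F) ≠ 0) (h7 : 7 ≤ Fintype.card F) {ε : ℤ}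
    (hε : ε = 1 ∨ ε = -1) : ∃ τ : F, (∀ k : ℕ, seq τ k = (0, 1) ↔ Fintype.card F + ε ∣ (k : ℤ)) ∧
      ∀ c : F, quadraticChar F c = -ε → ∃ ρ, ρ ≠ 0 ∧ (τ ^ 2 - 4) * c = ρ ^ 2 := by
  -- it is enough to find `ζ`
  suffices H : ∃ (K : Type) (_ : Field K) (_ : Algebra F K) (ζ : Kˣ) (τ : F), (orderOf ζ : ℤ) = Fintype.card F + ε ∧
      algebraMap F K τ = ζ + (ζ⁻¹ : Kˣ) ∧ (IsSquare (τ ^ 2 - 4) ↔ ε = -1) by
    obtain ⟨K, _, _, ζ, τ, hζ, hτ, hsq⟩ := H
    have hpow : ∀ (x : Kˣ), algebraMap F K τ = x + (x⁻¹ : Kˣ) → ∀ k : ℕ, ((x ^ k : Kˣ) : K) =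
        algebraMap F K (seq τ k).1 * x + algebraMap F K (seq τ k).2 := by
      intro x hx k
      have hxx : (x : K) * x = algebraMap F K τ * x - 1 := by
        rw [hx, add_mul, Units.inv_mul, add_sub_cancel_right]
      induction k with
      | zero => simp [seq]
      | succ k ih =>
        rw [pow_succ, Units.val_mul, ih]
        simp only [seq, map_add, map_mul, map_neg]
        linear_combination algebraMap F K (seq τ k).1 * hxx
    have hζ1 : ζ⁻¹ ≠ ζ := by
      intro h1
      have h3 : ζ ^ 2 = 1 := by
        rw [pow_two]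
        nth_rewrite 1 [← h1]
        exact inv_mul_cancel ζ
      have h4 := Nat.le_of_dvd (by norm_num) (orderOf_dvd_of_pow_eq_one h3)
      have h5 : (orderOf ζ : ℤ) ≤ 2 := by exact_mod_cast h4
      rw [hζ] at h5
      have h6 : (7 : ℤ) ≤ Fintype.card F := by exact_mod_cast h7
      rcases hε with h8 | h8 <;> rw [h8] at h5 <;> omega
    have hne : (ζ : K) - (ζ⁻¹ : Kˣ) ≠ 0 := by
      intro h1
      apply hζ1
      apply Units.ext
      exact (sub_eq_zero.1 h1).symm
    refine ⟨τ, fun k => ?_, fun c hc => ?_⟩
    · rw [← hζ, Int.natCast_dvd_natCast, orderOf_dvd_iff_pow_eq_one]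
      have h1 := hpow ζ hτ k
      have h3 := hpow ζ⁻¹ (by rw [inv_inv, add_comm]; exact hτ) k
      constructor
      · intro h
        rw [h] at h1
        apply Units.ext
        rw [h1]
        simp
      · intro h
        rw [h, Units.val_one] at h1
        rw [inv_pow, h, inv_one, Units.val_one] at h3
        have h4 : algebraMap F K (seq τ k).1 * ((ζ : K) - (ζ⁻¹ : Kˣ)) = 0 := by linear_combination h3 - h1
        have h5 := (mul_eq_zero.1 h4).resolve_right hne
        rw [h5, zero_mul, zero_add] at h1
        have h6 : (seq τ k).1 = 0 := (algebraMap F K).injective (by rw [h5, map_zero])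
        have h7 : (seq τ k).2 = 1 := (algebraMap F K).injective (by rw [← h1, map_one])
        exact Prod.ext h6 h7
    · have h1 : τ ^ 2 - 4 ≠ 0 := by
        intro h0
        have h3 := congrArg (algebraMap F K) h0
        have h4 : algebraMap F K (τ ^ 2 - 4) = ((ζ : K) - (ζ⁻¹ : Kˣ)) ^ 2 := by
          rw [map_sub, map_pow, hτ, map_ofNat]
          linear_combination 4 * Units.mul_inv ζ
        rw [h4, map_zero] at h3
        exact hne (pow_eq_zero_iff (by norm_num) |>.1 h3)
      have hc0 : c ≠ 0 := by
        rintro rfl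
        rw [quadraticChar_zero] at hc
        rcases hε with h8 | h8 <;> rw [h8] at hc <;> norm_num at hc
      have h3 : IsSquare ((τ ^ 2 - 4) * c) := by
        rw [ClassicalGeometry.Universal.isSquare_mul_iff h2 h1 hc0, hsq, ← quadraticChar_one_iff_isSquare hc0, hc]
        rcases hε with h8 | h8 <;> rw [h8] <;> norm_num
      obtain ⟨ρ, hρ⟩ := h3
      refine ⟨ρ, ?_, by rw [hρ, pow_two]⟩
      rintro rfl
      rw [mul_zero] at hρ
      exact mul_ne_zero h1 hc0 hρ
  rcases hε with rfl | rfl
  · -- the norm one group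
    obtain ⟨p, hp⟩ := CharP.exists F
    obtain ⟨n, hp', hn⟩ := FiniteField.card F p
    have : Fact p.Prime := ⟨hp'⟩
    have hE : Module.finrank F (FiniteField.Extension F p 2) = 2 := FiniteField.finrank_extension F p 2
    obtain ⟨u, hu, -⟩ := ClassicalGeometry.NonsplitTorus.exists_norm_one_generator (F := F)
      (E := FiniteField.Extension F p 2) hE
    have hq : u ^ (Fintype.card F + 1) = 1 := by rw [← hu, pow_orderOf_eq_one]
    have hinv : u⁻¹ = u ^ Fintype.card F := by
      rw [inv_eq_iff_mul_eq_one, ← pow_succ']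
      exact hq
    refine ⟨FiniteField.Extension F p 2, inferInstance, inferInstance, u, Algebra.trace F _ (u : FiniteField.Extension F p 2),
      by rw [hu]; push_cast; ring, ?_, ?_⟩
    · rw [FiniteField.algebraMap_trace_eq_sum_pow, hE, hinv]
      simp [Finset.sum_range_succ, Nat.card_eq_fintype_card]
    · have htr : algebraMap F (FiniteField.Extension F p 2) (Algebra.trace F _ (u : FiniteField.Extension F p 2)) =
        u + (u⁻¹ : (FiniteField.Extension F p 2)ˣ) := by
        rw [FiniteField.algebraMap_trace_eq_sum_pow, hE, hinv]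
        simp [Finset.sum_range_succ, Nat.card_eq_fintype_card]
      set τ := Algebra.trace F _ (u : FiniteField.Extension F p 2) with hτ
      constructor
      · rintro ⟨δ, hδ⟩
        exfalso
        have h3 := congrArg (algebraMap F (FiniteField.Extension F p 2)) hδ
        rw [map_sub, map_pow, htr, map_ofNat, map_mul] at h3
        have h4 : ((u : FiniteField.Extension F p 2) - (u⁻¹ : (FiniteField.Extension F p 2)ˣ) -
            algebraMap F _ δ) * ((u : FiniteField.Extension F p 2) - (u⁻¹ : (FiniteField.Extension F p 2)ˣ) +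
            algebraMap F _ δ) = 0 := by
          linear_combination h3 - 4 * Units.mul_inv u
        have h2K : (2 : FiniteField.Extension F p 2) ≠ 0 := by
          intro h0
          apply h2
          apply (algebraMap F (FiniteField.Extension F p 2)).injective
          rw [map_ofNat, h0, map_zero]
        obtain ⟨x, hx⟩ : ∃ x : F, algebraMap F (FiniteField.Extension F p 2) x = u := by
          rcases mul_eq_zero.1 h4 with h5 | h5
          · refine ⟨(τ + δ) / 2, ?_⟩
            rw [map_div₀, map_add, map_ofNat, htr, div_eq_iff h2K]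
            linear_combination -h5
          · refine ⟨(τ - δ) / 2, ?_⟩
            rw [map_div₀, map_sub, map_ofNat, htr, div_eq_iff h2K]
            linear_combination -h5
        have hx0 : x ≠ 0 := by
          rintro rfl
          rw [map_zero] at hx
          exact u.ne_zero hx.symm
        have h6 : u ^ (Fintype.card F - 1) = 1 := by
          apply Units.ext
          rw [Units.val_pow_eq_pow_val, ← hx, ← map_pow, FiniteField.pow_card_sub_one_eq_one x hx0, map_one]
          rfl
        have h8 := orderOf_dvd_of_pow_eq_one h6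
        rw [hu] at h8
        have h9 := Nat.le_of_dvd (by omega) h8
        omega
      · intro h
        norm_num at h
  · -- the split case
    obtain ⟨ζ, hζ⟩ := IsCyclic.exists_generator (α := Fˣ)
    have ho : orderOf ζ = Fintype.card F - 1 := by
      rw [orderOf_eq_card_of_forall_mem_zpowers hζ, Nat.card_units, Nat.card_eq_fintype_card]
    refine ⟨F, inferInstance, inferInstance, ζ, ζ + (ζ⁻¹ : Fˣ), ?_, rfl, ?_⟩
    · rw [ho]
      omega
    · constructor
      · intro _; rfl
      · intro _
        refine ⟨(ζ : F) - (ζ⁻¹ : Fˣ), ?_⟩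
        linear_combination 4 * Units.mul_inv ζ

section rot

variable {F : Type} [Field F] [Fintype F] [DecidableEq F] {ι : Type} [Fintype ι] [DecidableEq ι]
  {Q : QuadraticForm F (ι → F)}

/-- Two reflections of a plane whose product has order `q + ε`. -/
theorem exists_rot (h2 : (2 : F) ≠ 0) (h7 : 7 ≤ Fintype.card F) {ε : ℤ} (hε : ε = 1 ∨ ε = -1) {p p' : ι → F}
    (hp : Q p ≠ 0) (hp' : Q p' ≠ 0) (h0 : polar Q p p' = 0) (hχ : quadraticChar F (-(Q p * Q p')) = -ε) :
    ∃ (z : ι → F) (hz : Q z ≠ 0), (∃ a c : F, z = a • p + c • p') ∧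
      (orderOf (reflIso Q p hp * reflIso Q z hz) : ℤ) = Fintype.card F + ε := by
  obtain ⟨τ, hτ, hτc⟩ := exists_trace h2 h7 hε
  obtain ⟨ρ, hρ0, hρ⟩ := hτc _ hχ
  set α := Q p with hα
  set β := Q p' with hβ
  have h4 : (4 : F) ≠ 0 := by
    have : (4 : F) = 2 * 2 := by norm_num
    rw [this]
    exact mul_ne_zero h2 h2
  have hτ2 : 2 - τ ≠ 0 := by
    intro h
    have h1 : τ = 2 := by linear_combination -h
    rw [h1] at hρ
    apply hρ0
    have h3 : ρ ^ 2 = 0 := by rw [← hρ]; ring
    exact pow_eq_zero_iff (by norm_num) |>.1 h3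
  set z : ι → F := ρ • p + ((2 - τ) * α) • p' with hz
  have hQz : Q z = 4 * (2 - τ) * (α ^ 2 * β) := by
    rw [hz, map_smul_add _ _ h0, ← hρ]
    ring
  have hz0 : Q z ≠ 0 := by
    rw [hQz]
    exact mul_ne_zero (mul_ne_zero h4 hτ2) (mul_ne_zero (pow_ne_zero _ hp) hp')
  refine ⟨z, hz0, ⟨ρ, (2 - τ) * α, rfl⟩, ?_⟩
  set g := reflIso Q p hp * reflIso Q z hz0 with hg
  set G := isometryHom Q g with hG
  have hpz : polar Q p z = 2 * α * ρ := polar_left _ _ h0
  have hp'z : polar Q p' z = 2 * β * ((2 - τ) * α) := polar_right _ _ h0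
  have hpp : polar Q p p = 2 * α := polar_self' _
  have hp'p' : polar Q p' p' = 2 * β := polar_self' _
  have hp'p : polar Q p' p = 0 := by rw [polar_comm, h0]
  have hzp : polar Q z p = 2 * α * ρ := by rw [polar_comm, hpz]
  have hzp' : polar Q z p' = 2 * β * ((2 - τ) * α) := by rw [polar_comm, hp'z]
  have hGv : ∀ v, G v = v - ((Q z)⁻¹ * polar Q z v) • z -
      (α⁻¹ * (polar Q p v - (Q z)⁻¹ * polar Q z v * polar Q p z)) • p := by
    intro v
    rw [hG, isometryHom_apply, hg, coe_mul_mulVec, coe_reflIso, coe_reflIso, reflectionMatrix_mulVec,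
      reflectionMatrix_mulVec, polar_sub_right, polar_smul_right, smul_eq_mul]
  have hGp : G p = (τ / 2) • p + (-(ρ / (2 * β))) • p' := by
    rw [hGv, hzp, hpp, hpz, hQz, hz]
    match_scalars
    · field_simp
      linear_combination (-4 : F) * hρ
    · field_simp
      ring
  have hGp' : G p' = (ρ / (2 * α)) • p + (τ / 2) • p' := by
    rw [hGv, hzp', h0, hpz, hQz, hz]
    match_scalars
    · field_simp
      ring
    · field_simp
      ring
  have hρ' : ρ ^ 2 = (4 - τ ^ 2) * (α * β) := by rw [← hρ]; ring
  have hGG : G (G p) = τ • G p - p ∧ G (G p') = τ • G p' - p' := by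
    constructor
    · rw [hGp, map_add, map_smul, map_smul, hGp, hGp']
      match_scalars
      · field_simp
        linear_combination -hρ'
      · field_simp
        ring
    · rw [hGp', map_add, map_smul, map_smul, hGp, hGp']
      match_scalars
      · field_simp
        ring
      · field_simp
        linear_combination -hρ'
  have hpow : ∀ v, G (G v) = τ • G v - v → ∀ k : ℕ, (G ^ k) v = (seq τ k).1 • G v + (seq τ k).2 • v := by
    intro v hv k
    induction k with
    | zero => simp [seq]
    | succ k ih =>
      rw [pow_succ', LinearEquiv.mul_apply, ih, map_add, map_smul, map_smul, hv]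
      simp only [seq]
      module
  have hperp : ∀ v, polar Q p v = 0 → polar Q p' v = 0 → G v = v := by
    intro v hv hv'
    have h1 : polar Q z v = 0 := by
      rw [hz, polar_add_left, polar_smul_left, polar_smul_left, hv, hv', smul_zero, smul_zero, add_zero]
    rw [hGv, h1, hv]
    simp
  have hkey : ∀ k : ℕ, g ^ k = 1 ↔ seq τ k = (0, 1) := by
    intro k
    have h1 : g ^ k = 1 ↔ G ^ k = 1 := by
      rw [hG, ← map_pow]
      exact (map_eq_one_iff _ (isometryHom_injective Q)).symm
    rw [h1]
    constructor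
    · intro h
      have h3 := hpow p hGG.1 k
      rw [h, hGp] at h3
      have h5 : p = ((seq τ k).1 * (τ / 2) + (seq τ k).2) • p + ((seq τ k).1 * (-(ρ / (2 * β)))) • p' := by
        nth_rewrite 1 [show p = (1 : (ι → F) ≃ₗ[F] (ι → F)) p from rfl]
        rw [h3]
        module
      have h6 := congrArg (polar Q p') h5
      rw [polar_right _ _ h0, hp'p] at h6
      have h8 : (seq τ k).1 = 0 := by
        have h9 : 2 * β * (ρ / (2 * β)) ≠ 0 := by
          apply mul_ne_zero (mul_ne_zero h2 hp')
          exact div_ne_zero hρ0 (mul_ne_zero h2 hp')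
        have h10 : (seq τ k).1 * (2 * β * (ρ / (2 * β))) = 0 := by linear_combination h6
        exact (mul_eq_zero.1 h10).resolve_right h9
      have h9 := congrArg (polar Q p) h5
      rw [polar_left _ _ h0, hpp, h8] at h9
      have h10 : (seq τ k).2 = 1 := by
        have h11 : 2 * α * ((seq τ k).2 - 1) = 0 := by linear_combination -h9
        exact sub_eq_zero.1 ((mul_eq_zero.1 h11).resolve_left (mul_ne_zero h2 hp))
      exact Prod.ext h8 h10
    · intro h
      have h3 := hpow p hGG.1 k
      have h5 := hpow p' hGG.2 k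
      rw [h] at h3 h5
      simp only [zero_smul, one_smul, zero_add] at h3 h5
      have h6 : ∀ j : ℕ, ∀ v, polar Q p v = 0 → polar Q p' v = 0 → (G ^ j) v = v := by
        intro j v hv hv'
        induction j with
        | zero => rfl
        | succ j ih => rw [pow_succ, LinearEquiv.mul_apply, hperp v hv hv', ih]
      ext v
      have h8 : v = (polar Q p v / (2 * α)) • p + (polar Q p' v / (2 * β)) • p' +
        (v - (polar Q p v / (2 * α)) • p - (polar Q p' v / (2 * β)) • p') := by abel
      have h9 : (G ^ k) v = v := by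
        rw [h8, map_add, map_add, map_smul, map_smul, h3, h5, h6 k _ ?_ ?_]
        · rw [polar_sub_right, polar_sub_right, polar_smul_right, polar_smul_right, hpp, h0, smul_zero, sub_zero,
            smul_eq_mul, div_mul_cancel₀ _ (mul_ne_zero h2 hp), sub_self]
        · rw [polar_sub_right, polar_sub_right, polar_smul_right, polar_smul_right, hp'p', hp'p, smul_zero, sub_zero,
            smul_eq_mul, div_mul_cancel₀ _ (mul_ne_zero h2 hp'), sub_self]
      rw [h9]
      rfl
  -- the order
  obtain ⟨m, hm⟩ : ∃ m : ℕ, (m : ℤ) = Fintype.card F + ε := by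
    refine ⟨((Fintype.card F : ℤ) + ε).toNat, Int.toNat_of_nonneg ?_⟩
    rcases hε with h | h <;> rw [h] <;> omega
  rw [← hm]
  congr 1
  apply Nat.dvd_antisymm
  · rw [orderOf_dvd_iff_pow_eq_one, hkey, hτ, hm]
  · have h1 := (hτ (orderOf g)).1 ((hkey _).1 (pow_orderOf_eq_one g))
    rw [← hm] at h1
    exact_mod_cast h1

end rot

end Cfsg.Agent.H273.S69
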