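import Cfsg.Agent.H273.S69.Plane
import Cfsg.Agent.H273.S69.Arith
import Cfsg.Agent.H126.S74.OmInv
import Cfsg.Agent.LieClassical.OrthFinite

/-!
# S3469, task T11 (helper273 for helper214): elements of order `q ^ 3 - ε` of `Ω₈⁻(q)`

* `Space.order_seven` : the isometry group has no element of order `7 (q ^ 3 - ε)`;
* `Space.struct` : an element `x` of order `n = q ^ 3 - ε` of `Ω₈⁻(q)`, `q = ε` modulo 4: `x ^ (n / 2)` has a
  `(-1)`-eigenspace of dimension 6 and `x = -1` on its fixed space.
-/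

set_option autoImplicit false
set_option linter.unusedSectionVars false
set_option linter.unusedVariables false

namespace Cfsg.Agent.H273.S69

open Module QuadraticMap Cfsg.Agent.LieClassical.OrthCore Matrix
open Cfsg.Agent.LieClassical.OrthFinite (isometryHom isometryHom_apply isometryHom_injective)
open Cfsg.Agent.ClassicalGeometry.Reflection (reflIso coe_reflIso reflectionMatrix_mulVec coe_mul_mulVec
  isometryGroup_ext)

section abstract

variable {F V : Type*} [Field F] [Fintype F] [AddCommGroup V] [Module F V] [FiniteDimensional F V]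
  {Q : QuadraticForm F V} {s : V ≃ₗ[F] V} {r n : ℕ} {ε : ℤ}

/-- The number of vectors with `Q v = 1` in the fixed space of `s`. -/
theorem SData.card_Fx (h : SData Q s r) (hN : NData (Fintype.card F) n ε)
    (hr : (r : ℤ) ∣ (Fintype.card F : ℤ) ^ 2 + ε * Fintype.card F + 1)
    (hcount : Nat.card {v : V // Q v = 1} = Fintype.card F ^ 7 + Fintype.card F ^ 3) :
    (Nat.card {v : V // v ∈ Fx s ∧ Q v = 1} : ℤ) = Fintype.card F + ε := by
  classical
  have : Finite V := Module.finite_of_finite F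
  obtain ⟨p, hp, p', hp', hQp, hQp', h0, hsp⟩ := exists_orth_basis h.h2 h.ndOn_Fx h.finrank_Fx
  have h1 := card_plane h.h2 hp hp' hQp hQp' h0 hsp
  -- the congruence
  let f : {v : V // Q v = 1} → {v : V // Q v = 1} := fun v => ⟨s v, by rw [mem_O.1 h.mem]; exact v.2⟩
  have hfk : ∀ k : ℕ, ∀ v : {v : V // Q v = 1}, ((f^[k] v : {v : V // Q v = 1}) : V) = (s ^ k) (v : V) := by
    intro k
    induction k with
    | zero => intro v; rfl
    | succ k ih =>
      intro v
      rw [Function.iterate_succ_apply', pow_succ', LinearEquiv.mul_apply, ← ih]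
  have h3 := natCard_modEq (k := 1) h.prime f (fun v => Subtype.ext (by rw [hfk, pow_one, h.pow]; rfl))
  have e : {v : {v : V // Q v = 1} // f v = v} ≃ {v : V // v ∈ Fx s ∧ Q v = 1} :=
    { toFun := fun v => ⟨v.1.1, mem_Fx.2 (congrArg Subtype.val v.2), v.1.2⟩
      invFun := fun v => ⟨⟨v.1, v.2.2⟩, Subtype.ext (mem_Fx.1 v.2.1)⟩
      left_inv := fun v => rfl
      right_inv := fun v => rfl }
  rw [Nat.card_congr e, hcount] at h3
  have h4 := (Int.natCast_modEq_iff.2 h3).dvd
  rw [h1] at h4 ⊢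
  push_cast at h4
  set q : ℤ := (Fintype.card F : ℤ) with hq
  set χ : ℤ := quadraticChar F (-(Q p * Q p')) with hχ
  have hχ1 : χ = 1 ∨ χ = -1 := quadraticChar_dichotomy (neg_ne_zero.2 (mul_ne_zero hQp hQp'))
  -- `q ^ 7 + q ^ 3 = q + ε` modulo `r`
  have h5 : (r : ℤ) ∣ q ^ 7 + q ^ 3 - (q + ε) := by
    have h6 : q ^ 7 + q ^ 3 - (q + ε) = (q ^ 2 + ε * q + 1) * ((q - ε) * (q ^ 4 + ε * q + 1)) +
        (ε * ε - 1) * (q ^ 5 + ε * q ^ 2 + 2 * q) := by ring
    rw [h6, hN.eps_sq, sub_self, zero_mul, add_zero]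
    exact hr.mul_right _
  have h6 : (r : ℤ) ∣ χ + ε := by
    have h7 := dvd_add h4 h5
    have h8 : q - χ - (q ^ 7 + q ^ 3) + (q ^ 7 + q ^ 3 - (q + ε)) = -(χ + ε) := by ring
    rw [h8, dvd_neg] at h7
    exact h7
  have h7 : χ + ε = 0 := by
    have hr3 : (3 : ℤ) ≤ r := by
      have h8 := h.prime.two_le
      obtain ⟨k, hk⟩ := h.odd
      omega
    by_contra h8
    have h9 := Int.le_of_dvd (abs_pos.2 h8) ((dvd_abs _ _).2 h6)
    rcases hχ1 with h10 | h10 <;> rcases hN.eps with h11 | h11 <;> rw [h10, h11] at h9 h8 <;> norm_num at h9 h8 <;> omega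
  linarith

end abstract

/-- What is used of the minus form in dimension 8. -/
structure Space {F : Type*} [Field F] [Fintype F] {ι : Type} [Fintype ι] [DecidableEq ι]
    (Q : QuadraticForm F (ι → F)) : Prop where
  h2 : (2 : F) ≠ 0
  nd : (polarBilin Q).Nondegenerate
  dim : Fintype.card ι = 8
  count : Nat.card {v : ι → F // Q v = 1} = Fintype.card F ^ 7 + Fintype.card F ^ 3

section matrix

variable {F : Type*} [Field F] [Fintype F] {ι : Type} [Fintype ι] [DecidableEq ι] {Q : QuadraticForm F (ι → F)}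
  {n : ℕ} {ε : ℤ}

theorem nondeg_of (h : (polarBilin Q).Nondegenerate) : Nondeg Q := by
  intro x hx
  exact h.1 x hx

theorem hom_mem_O (x : Cfsg.isometryGroup F ⇑Q) : isometryHom Q x ∈ O Q := fun v => x.2 v v

/-- The data of a suitable power of an element of order divisible by `n`. -/
theorem Space.sdata (S : Space Q) (hN : NData (Fintype.card F) n ε) {x : Cfsg.isometryGroup F ⇑Q} {m : ℕ}
    (hx : orderOf x = m) (hm : n ∣ m) : ∃ r : ℕ, SData Q (isometryHom Q x ^ (m / r)) r ∧
      (r : ℤ) ∣ (Fintype.card F : ℤ) ^ 2 + ε * Fintype.card F + 1 := by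
  obtain ⟨r, hr, hro, hrn, hrq, hrm, h3⟩ := hN.exists_prime
  have hfin : Finite (Cfsg.isometryGroup F ⇑Q) := Subtype.finite
  have hm0 : m ≠ 0 := by
    rw [← hx]
    exact (orderOf_pos x).ne'
  have hrm' : r ∣ m := hrn.trans hm
  have hcast : (r : F) ≠ 0 := by
    intro h0
    obtain ⟨p, hp⟩ := CharP.exists F
    obtain ⟨k, hp', hk⟩ := FiniteField.card F p
    have h1 := (CharP.cast_eq_zero_iff F p r).1 h0
    have h4 : p = r := (Nat.prime_dvd_prime_iff_eq hp' hr).1 h1
    apply hrq
    rw [hk, h4]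
    exact dvd_pow_self r k.ne_zero
  refine ⟨r, ⟨S.h2, nondeg_of S.nd, ?_, (O Q).pow_mem (hom_mem_O x) _, hr, hro, hcast, ?_, ?_, ?_⟩, hrm⟩
  · rw [Module.finrank_fintype_fun_eq_card]
    exact S.dim
  · rw [← pow_mul, Nat.div_mul_cancel hrm', ← map_pow, ← hx, pow_orderOf_eq_one, map_one]
  · intro h1
    rw [← map_pow] at h1
    have h4 := isometryHom_injective Q (h1.trans (map_one _).symm)
    rw [← orderOf_dvd_iff_pow_eq_one, hx] at h4
    have h5 := Nat.le_of_dvd (Nat.div_pos (Nat.le_of_dvd (Nat.pos_of_ne_zero hm0) hrm') hr.pos) h4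
    exact absurd (Nat.div_lt_self (Nat.pos_of_ne_zero hm0) hr.one_lt) (not_lt.2 h5)
  · intro d hd
    rw [Nat.card_eq_fintype_card] at hd
    exact h3 d hd

/-- There are no elements of order `7 n`. -/
theorem Space.order_seven [CharP F 7] (S : Space Q) (hN : NData (Fintype.card F) n ε)
    (x : Cfsg.isometryGroup F ⇑Q) : orderOf x ≠ 7 * n := by
  intro hx
  obtain ⟨r, h, -⟩ := S.sdata hN hx (Dvd.intro_left 7 rfl)
  have : Fact (Nat.Prime 7) := ⟨by norm_num⟩
  have h1 : isometryHom Q (x ^ n) = 1 := by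
    apply h.eq_one_of_commute (p := 7) (k := 1) (hom_mem_O _)
    · rw [← map_pow, ← pow_mul, pow_one, mul_comm, ← hx, pow_orderOf_eq_one, map_one]
    · rw [← map_pow, ← map_mul, ← map_mul]
      congr 1
      rw [← pow_add, ← pow_add, add_comm]
  have h3 := isometryHom_injective Q (h1.trans (map_one _).symm)
  rw [← orderOf_dvd_iff_pow_eq_one, hx] at h3
  have h4 := hN.n_pos
  have h5 := Nat.le_of_dvd h4 h3
  omega

/-- An isometry of determinant `-1` has the eigenvalue `-1`. -/
theorem exists_neg_of_det (hQ : (polarBilin Q).Nondegenerate) (h2 : (2 : F) ≠ 0) (y : Cfsg.isometryGroup F ⇑Q)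
    (hy : ((y : GL ι F) : Matrix ι ι F).det = -1) : ∃ v, v ≠ 0 ∧ isometryHom Q y v = -v := by
  obtain ⟨-, -, h3⟩ := det_isom (polarBilin Q) hQ (Matrix.toLin' ((y : GL ι F) : Matrix ι ι F))
    (fun u v => polar_map (hom_mem_O y) u v)
  rw [LinearMap.det_toLin', hy] at h3
  have h4 : LinearMap.det (Matrix.toLin' ((y : GL ι F) : Matrix ι ι F) + 1) = 0 := by
    rcases mul_eq_zero.1 h3 with h | h
    · exact h
    · exact absurd (by linear_combination -h) h2
  obtain ⟨v, hv0, hv⟩ := exists_of_det _ h4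
  refine ⟨v, hv0, ?_⟩
  rw [LinearMap.add_apply, ← eq_neg_iff_add_eq_zero] at hv
  exact hv

/-- **Structure of elements of order `n` of `Ω`.** -/
theorem Space.struct (S : Space Q) (hN : NData (Fintype.card F) n ε) {x : Cfsg.isometryGroup F ⇑Q}
    (hx : x ∈ Cfsg.Omega F ⇑Q) (ho : orderOf x = n) :
    finrank F (H126.S74.OmInv.WW (((x ^ (n / 2) : Cfsg.isometryGroup F ⇑Q) : GL ι F) : Matrix ι ι F)) = 6 ∧
    ∀ v, (((x ^ (n / 2) : Cfsg.isometryGroup F ⇑Q) : GL ι F) : Matrix ι ι F) *ᵥ v = v →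
      ((x : GL ι F) : Matrix ι ι F) *ᵥ v = -v := by
  classical
  have hfin : Finite (Cfsg.isometryGroup F ⇑Q) := Subtype.finite
  obtain ⟨r, h, hr⟩ := S.sdata hN ho dvd_rfl
  have h2 := S.h2
  set X := isometryHom Q x with hX
  set s := X ^ (n / r) with hs
  have hXO : X ∈ O Q := hom_mem_O x
  have hXs : X * s = s * X := by rw [hs, ← pow_succ, ← pow_succ']
  have hXn : X ^ n = 1 := by rw [hX, ← map_pow, ← ho, pow_orderOf_eq_one, map_one]
  have hXP : ∀ v ∈ Fx s, X v ∈ Fx s := fun v hv => SData.map_Fx_of_commute hXs hv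
  have hXW : ∀ v ∈ Rg s, X v ∈ Rg s := fun v hv => SData.map_Rg_of_commute hXs hv
  have h4 := hN.four_dvd
  have hn0 := hN.n_pos
  obtain ⟨n4, hn4⟩ := h4
  have hn2 : n / 2 = 2 * n4 := by omega
  have hcard := h.card_Fx hN hr S.count
  -- `X² = 1` on the plane
  have hsq : ∀ v ∈ Fx s, X (X v) = v := by
    refine sq_eq_of_plane h2 h.ndOn_Fx h.finrank_Fx hXO hXP (n := n) (fun v _ => by rw [hXn]; rfl)
      (hN.gcd_dvd hcard) ?_
    intro h0
    rw [h0] at hcard
    have h5 := hN.seven_le
    have h6 : (7 : ℤ) ≤ Fintype.card F := by exact_mod_cast h5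
    rcases hN.eps with h7 | h7 <;> rw [h7] at hcard <;> push_cast at hcard <;> linarith
  have hsqk : ∀ k : ℕ, ∀ v ∈ Fx s, (X ^ (2 * k)) v = v := by
    intro k
    induction k with
    | zero => intro v _; rfl
    | succ k ih =>
      intro v hv
      rw [mul_add, mul_one, pow_add, LinearEquiv.mul_apply, pow_two, LinearEquiv.mul_apply, hsq v hv, ih v hv]
  -- the involution
  set t := X ^ (n / 2) with ht
  have htx : t = isometryHom Q (x ^ (n / 2)) := by rw [ht, hX, map_pow]
  have ht2 : t ^ 2 = 1 := by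
    rw [ht, ← pow_mul, Nat.div_mul_cancel ⟨2 * n4, by omega⟩, hXn]
  have htO : t ∈ O Q := (O Q).pow_mem hXO _
  have hts : t * s = s * t := by
    rw [ht, hs, ← pow_add, ← pow_add, add_comm]
  have htP : ∀ v ∈ Fx s, t v = v := by
    intro v hv
    rw [ht, hn2]
    exact hsqk n4 v hv
  have htne : t ≠ 1 := by
    intro h1
    rw [htx] at h1
    have h3 := isometryHom_injective Q (h1.trans (map_one _).symm)
    rw [← orderOf_dvd_iff_pow_eq_one, ho] at h3
    have h5 := Nat.le_of_dvd (by omega) h3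
    omega
  have htW : ∀ w ∈ Rg s, t w = -w := by
    rcases h.neg_or_one htO ht2 hts with h1 | h1
    · exfalso
      apply htne
      ext v
      obtain ⟨p, hp, w, hw, rfl⟩ := h.exists_add v
      rw [map_add, htP p hp, h1 w hw]
      rfl
    · exact h1
  have hhalf : ∀ (y : ι → F), y + y = 0 → y = 0 := by
    intro y hy
    rw [← two_smul F] at hy
    exact (smul_eq_zero.1 hy).resolve_left h2
  have htfix : ∀ v, t v = v → v ∈ Fx s := by
    intro v hv
    obtain ⟨p, hp, w, hw, rfl⟩ := h.exists_add v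
    rw [map_add, htP p hp, htW w hw] at hv
    have h1 : -w = w := add_left_cancel hv
    have h3 : w = 0 := hhalf w (by nth_rewrite 1 [← h1]; exact neg_add_cancel _)
    rw [h3, add_zero]
    exact hp
  -- vectors `w` with `X ^ 2k w = w`
  have hWX : ∀ w ∈ Rg s, X w = -w → w = 0 := by
    intro w hw hXw
    have h1 : ∀ k : ℕ, (X ^ (2 * k)) w = w := by
      intro k
      induction k with
      | zero => rfl
      | succ k ih =>
        rw [mul_add, mul_one, pow_add, LinearEquiv.mul_apply, pow_two, LinearEquiv.mul_apply, hXw, map_neg, hXw,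
          neg_neg, ih]
    have h3 := htW w hw
    rw [ht, hn2, h1] at h3
    exact hhalf w (by nth_rewrite 1 [h3]; exact neg_add_cancel _)
  -- `X = 1` or `X = -1` on the plane
  have hdet : ((x : GL ι F) : Matrix ι ι F).det = 1 := by
    have := (ClassicalGeometry.OmegaIndex.mem_Omega_iff h2 Q S.nd (by rw [S.dim]; norm_num) one_ne_zero x).1 hx
    exact this.1
  have hpm : (∀ v ∈ Fx s, X v = v) ∨ ∀ v ∈ Fx s, X v = -v := by
    by_contra hcon
    rw [not_or] at hcon
    push Not at hcon
    obtain ⟨⟨a, ha, ha'⟩, b, hb, hb'⟩ := hcon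
    -- `p₁`, `p₂`
    set p₁ := X b + b with hp₁
    set p₂ := X a - a with hp₂
    have hp₁P : p₁ ∈ Fx s := (Fx s).add_mem (hXP b hb) hb
    have hp₂P : p₂ ∈ Fx s := (Fx s).sub_mem (hXP a ha) ha
    have hX₁ : X p₁ = p₁ := by rw [hp₁, map_add, hsq b hb, add_comm]
    have hX₂ : X p₂ = -p₂ := by rw [hp₂, map_sub, hsq a ha, neg_sub]
    have h₁ : p₁ ≠ 0 := fun h0 => hb' (eq_neg_of_add_eq_zero_left h0)
    have h₂ : p₂ ≠ 0 := fun h0 => ha' (sub_eq_zero.1 h0)
    have horth : polar Q p₂ p₁ = 0 := by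
      have h5 := polar_map hXO p₂ p₁
      rw [hX₁, hX₂, polar_neg_left] at h5
      have h6 : 2 * polar Q p₂ p₁ = 0 := by linear_combination -h5
      exact (mul_eq_zero.1 h6).resolve_left h2
    have hli : LinearIndependent F ![p₁, p₂] := by
      rw [LinearIndependent.pair_iff]
      intro c d hcd
      have h5 := congrArg X hcd
      rw [map_add, map_smul, map_smul, hX₁, hX₂, map_zero, smul_neg] at h5
      have h6 : c • p₁ + c • p₁ = 0 := by
        have h7 : c • p₁ + d • p₂ + (c • p₁ + -(d • p₂)) = 0 := by rw [hcd, h5, add_zero]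
        rw [← h7]
        abel
      have h7 : c • p₁ = 0 := hhalf _ h6
      rw [h7, zero_add] at hcd
      exact ⟨(smul_eq_zero.1 h7).resolve_right h₁, (smul_eq_zero.1 hcd).resolve_right h₂⟩
    have hspan : Submodule.span F (Set.range ![p₁, p₂]) = Fx s := by
      apply Submodule.eq_of_le_of_finrank_eq
      · rw [Submodule.span_le]
        rintro _ ⟨i, rfl⟩
        fin_cases i
        · exact hp₁P
        · exact hp₂P
      · rw [finrank_span_eq_card hli, Fintype.card_fin, h.finrank_Fx]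
    have hsp : ∀ v ∈ Fx s, ∃ c d : F, v = c • p₁ + d • p₂ := by
      intro v hv
      rw [← hspan, Matrix.range_cons, Matrix.range_cons, Matrix.range_empty, Set.union_empty] at hv
      have hv' : v ∈ Submodule.span F {p₁, p₂} := hv
      obtain ⟨c, d, h⟩ := Submodule.mem_span_pair.1 hv'
      exact ⟨c, d, h.symm⟩
    have hQ₂ : Q p₂ ≠ 0 := by
      intro h0
      apply h₂
      apply h.ndOn_Fx p₂ hp₂P
      intro w hw
      obtain ⟨c, d, rfl⟩ := hsp w hw
      rw [polar_add_right, polar_smul_right, polar_smul_right, horth, polar_self', h0]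
      simp
    -- the isometry `r X` of determinant `-1`
    have hy : (((reflIso Q p₂ hQ₂ * x : Cfsg.isometryGroup F ⇑Q) : GL ι F) : Matrix ι ι F).det = -1 := by
      have h5 : (((reflIso Q p₂ hQ₂ * x : Cfsg.isometryGroup F ⇑Q) : GL ι F) : Matrix ι ι F) =
        ((reflIso Q p₂ hQ₂ : GL ι F) : Matrix ι ι F) * ((x : GL ι F) : Matrix ι ι F) := rfl
      rw [h5, Matrix.det_mul, ClassicalGeometry.Reflection.det_reflIso, hdet, mul_one]
    obtain ⟨v, hv0, hv⟩ := exists_neg_of_det S.nd h2 _ hy
    have hrX : ∀ u, isometryHom Q (reflIso Q p₂ hQ₂ * x) u = X u - ((Q p₂)⁻¹ * polar Q p₂ (X u)) • p₂ := by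
      intro u
      rw [map_mul, LinearEquiv.mul_apply, isometryHom_apply, coe_reflIso, reflectionMatrix_mulVec]
    rw [hrX] at hv
    obtain ⟨p, hp, w, hw, rfl⟩ := h.exists_add v
    obtain ⟨c, d, rfl⟩ := hsp p hp
    have hpw : polar Q p₂ (X w) = 0 := h.orth hp₂P (hXW w hw)
    have h5 : X (c • p₁ + d • p₂ + w) - ((Q p₂)⁻¹ * polar Q p₂ (X (c • p₁ + d • p₂ + w))) • p₂ =
        (c • p₁ + d • p₂) + X w := by
      rw [map_add, polar_add_right, hpw, map_add, map_smul, map_smul, hX₁, hX₂, polar_add_right, polar_smul_right,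
        horth, polar_smul_right, polar_neg_right, polar_self']
      have h6 : (Q p₂)⁻¹ * (c • (0 : F) + d • -(2 * Q p₂) + 0) = -(2 * d) := by
        simp only [smul_eq_mul]
        field_simp
        ring
      rw [h6]
      module
    rw [h5, neg_add] at hv
    -- compare components
    have h6 : (c • p₁ + d • p₂) + (c • p₁ + d • p₂) ∈ Rg s := by
      have h7 : (c • p₁ + d • p₂) + (c • p₁ + d • p₂) = -w - X w := by
        have h8 : (c • p₁ + d • p₂) + X w + (c • p₁ + d • p₂) + (- X w) =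
          -(c • p₁ + d • p₂) + -w + (c • p₁ + d • p₂) + (-X w) := by rw [hv]
        have h9 : (c • p₁ + d • p₂) + X w + (c • p₁ + d • p₂) + (- X w) =
          (c • p₁ + d • p₂) + (c • p₁ + d • p₂) := by abel
        rw [← h9, h8]
        abel
      rw [h7]
      exact (Rg s).sub_mem ((Rg s).neg_mem hw) (hXW w hw)
    have h7 : (c • p₁ + d • p₂) + (c • p₁ + d • p₂) = 0 :=
      eq_zero_of_mem h.ne_zero h.pow ((Fx s).add_mem hp hp) h6
    have h8 : c • p₁ + d • p₂ = 0 := hhalf _ h7
    rw [h8, zero_add, neg_zero, zero_add] at hv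
    have h9 := hWX w hw hv
    apply hv0
    rw [h8, h9, add_zero]
  -- `X ≠ 1` on the plane
  have hneg : ∀ v ∈ Fx s, X v = -v := by
    rcases hpm with hone | hneg
    swap
    · exact hneg
    exfalso
    obtain ⟨k, m, hmodd, hkm⟩ := Nat.exists_eq_two_pow_mul_odd hn0.ne'
    have hk1 : 1 ≤ k := by
      rcases Nat.eq_zero_or_pos k with h0 | h0
      · rw [h0, pow_zero, one_mul] at hkm
        obtain ⟨j, hj⟩ := hmodd
        omega
      · exact h0
    have hkk : 2 ^ (k - 1) * 2 = 2 ^ k := by rw [← pow_succ, Nat.sub_add_cancel hk1]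
    have hhalfn : n / 2 = m * 2 ^ (k - 1) := by
      have : n = m * 2 ^ (k - 1) * 2 := by rw [mul_assoc, hkk, hkm, mul_comm]
      omega
    let _ := Fintype.ofFinite {v : ι → F // Q v = 1}
    set f := ClassicalGeometry.SpinorSign.quadricPerm (⇑Q) (1 : F) (x ^ m) with hf
    have hfv : ∀ j : ℕ, ∀ v : {v : ι → F // Q v = 1}, (((f ^ j) v : {v : ι → F // Q v = 1}) : ι → F) = (X ^ (m * j)) v := by
      intro j v
      rw [hf, ← map_pow, ← pow_mul, hX, ← map_pow]
      rfl
    have hsign : Equiv.Perm.sign f = 1 := by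
      rw [hf, ← ClassicalGeometry.SpinorSign.spinorSign_apply, map_pow]
      have := (ClassicalGeometry.OmegaIndex.mem_Omega_iff h2 Q S.nd (by rw [S.dim]; norm_num) one_ne_zero x).1 hx
      rw [this.2, one_pow]
    have hfixP : ∀ v : {v : ι → F // Q v = 1}, (v : ι → F) ∈ Fx s → f v = v := by
      intro v hv
      have h1 : ∀ j : ℕ, (X ^ j) (v : ι → F) = v := by
        intro j
        induction j with
        | zero => rfl
        | succ j ih => rw [pow_succ, LinearEquiv.mul_apply, hone _ hv, ih]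
      apply Subtype.ext
      have h3 := hfv 1 v
      rw [pow_one] at h3
      rw [h3]
      exact h1 _
    have hfix : ∀ v : {v : ι → F // Q v = 1}, (f ^ 2 ^ (k - 1)) v = v → (v : ι → F) ∈ Fx s := by
      intro v hv
      apply htfix
      have h3 := hfv (2 ^ (k - 1)) v
      rw [hv, ← hhalfn] at h3
      exact h3.symm
    have hfk : f ^ 2 ^ k = 1 := by
      rw [hf, ← map_pow, ← pow_mul, mul_comm, ← hkm, ← ho, pow_orderOf_eq_one, map_one]
    -- the number of cycles
    obtain ⟨c, hc⟩ : ∃ c : ℕ, (c : ℤ) = m * ((Fintype.card F : ℤ) ^ 4 + ε * Fintype.card F + 1) := by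
      refine ⟨(m * ((Fintype.card F : ℤ) ^ 4 + ε * Fintype.card F + 1)).toNat, Int.toNat_of_nonneg ?_⟩
      have h5 : (7 : ℤ) ≤ Fintype.card F := by exact_mod_cast hN.seven_le
      apply mul_nonneg (by positivity)
      have h6 : (Fintype.card F : ℤ) ≤ (Fintype.card F : ℤ) ^ 4 := le_self_pow₀ (by linarith) (by norm_num)
      rcases hN.eps with h7 | h7 <;> rw [h7] <;> linarith
    have hcodd : Odd c := by
      have hq : Odd (Fintype.card F : ℤ) := by
        obtain ⟨a, ha⟩ := hN.mod4
        rw [Int.odd_iff]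
        rcases hN.eps with h7 | h7 <;> rw [h7] at ha <;> omega
      have hcz : Odd (c : ℤ) := by
        rw [hc]
        refine Odd.mul (by exact_mod_cast hmodd) ?_
        have h7 : Even ((Fintype.card F : ℤ) ^ 4 + ε * Fintype.card F) := by
          refine Odd.add_odd hq.pow (Odd.mul ?_ hq)
          rcases hN.eps with h7 | h7 <;> rw [h7] <;> decide
        exact h7.add_one
      exact_mod_cast hcz
    have hsupp : f.support.card = 2 ^ k * c := by
      have h5 : (Finset.univ.filter fun v => f v = v).card + f.support.card = Nat.card {v : ι → F // Q v = 1} := by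
        rw [Nat.card_eq_fintype_card, ← Finset.card_univ, Equiv.Perm.support]
        exact Finset.card_filter_add_card_filter_not _
      have h6 : (Finset.univ.filter fun v => f v = v).card = Nat.card {v : ι → F // v ∈ Fx s ∧ Q v = 1} := by
        rw [← Fintype.card_subtype, ← Nat.card_eq_fintype_card]
        exact Nat.card_congr
          { toFun := fun v => ⟨v.1.1, hfix v.1 (by
              have : ∀ j : ℕ, (f ^ j) v.1 = v.1 := by
                intro j
                induction j with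
                | zero => rfl
                | succ j ih => rw [pow_succ, Equiv.Perm.mul_apply, v.2, ih]
              exact this _), v.1.2⟩
            invFun := fun v => ⟨⟨v.1, v.2.2⟩, hfixP _ v.2.1⟩
            left_inv := fun v => rfl
            right_inv := fun v => rfl }
      rw [h6, S.count] at h5
      have h7 : ((Nat.card {v : ι → F // v ∈ Fx s ∧ Q v = 1} + f.support.card : ℕ) : ℤ) =
        ((Fintype.card F ^ 7 + Fintype.card F ^ 3 : ℕ) : ℤ) := by rw [h5]
      push_cast at h7
      rw [hcard] at h7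
      have h8 : (n : ℤ) = 2 ^ k * m := by
        rw [← Nat.cast_ofNat (R := ℤ) (n := 2), ← Nat.cast_pow, ← Nat.cast_mul, ← hkm]
      have h9 : ((f.support.card : ℕ) : ℤ) = ((2 ^ k * c : ℕ) : ℤ) := by
        push_cast
        rw [hc, ← mul_assoc, ← h8, hN.eq]
        linear_combination h7 + (Fintype.card F : ℤ) * hN.eps_sq
      exact_mod_cast h9
    have hs1 := sign_eq_neg_one f hk1 hfk (fun v hv => hfixP v (hfix v hv)) hcodd hsupp
    rw [hs1] at hsign
    exact absurd hsign (by decide)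
  refine ⟨?_, fun v hv => ?_⟩
  · have h1 : H126.S74.OmInv.WW (((x ^ (n / 2) : Cfsg.isometryGroup F ⇑Q) : GL ι F) : Matrix ι ι F) = Rg s := by
      ext w
      rw [H126.S74.OmInv.mem_WW]
      have h3 : (((x ^ (n / 2) : Cfsg.isometryGroup F ⇑Q) : GL ι F) : Matrix ι ι F) *ᵥ w = t w := by rw [htx]; rfl
      rw [h3]
      constructor
      · intro hw
        obtain ⟨p, hp, w', hw', rfl⟩ := h.exists_add w
        rw [map_add, htP p hp, htW w' hw', neg_add] at hw
        have h5 : p = -p := add_right_cancel hw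
        have h6 : p = 0 := hhalf p (by nth_rewrite 1 [h5]; exact neg_add_cancel _)
        rw [h6, zero_add]
        exact hw'
      · exact htW w
    rw [h1]
    exact h.finrank_Rg
  · have h3 : (((x ^ (n / 2) : Cfsg.isometryGroup F ⇑Q) : GL ι F) : Matrix ι ι F) *ᵥ v = t v := by rw [htx]; rfl
    rw [h3] at hv
    exact hneg v (htfix v hv)

end matrix

end Cfsg.Agent.H273.S69
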