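import Cfsg.Agent.H273.S69.Mod
import Cfsg.Agent.LieClassical.OrthSimple

/-!
# S3469, task T11 (helper273 for helper214): the subgroup `Ω₆` acts trivially

Let `t ∈ Ω(Q)` be `-1` on the span of an orthonormal family `w₀, …, w₅` and `1` on its orthogonal complement. Then the
elements of `Ω(Q)` which are trivial on the complement act trivially on the vectors of the module fixed by `t`.
-/

set_option autoImplicit false
set_option linter.unusedSectionVars false
set_option linter.unusedVariables false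

universe v

namespace Cfsg.Agent.H273.S69

open Module QuadraticMap Matrix Cfsg.Agent.LieClassical.OrthCore Cfsg.Agent.H214.S69
open Cfsg.Agent.LieClassical.OrthFinite (isometryHom isometryHom_apply isometryHom_injective)
open Cfsg.Agent.ClassicalGeometry.Reflection (reflIso coe_reflIso reflectionMatrix_mulVec coe_mul_mulVec
  isometryGroup_ext polar_mulVec_of_isometry)

variable {F : Type} [Field F] [Fintype F] {ι : Type} [Fintype ι] [DecidableEq ι] {Q : QuadraticForm F (ι → F)}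

/-- the matrix of an element of `Ω` -/
abbrev om (g : Cfsg.Omega F ⇑Q) : Matrix ι ι F := ((g : Cfsg.isometryGroup F ⇑Q) : GL ι F).val

theorem om_mul (g h : Cfsg.Omega F ⇑Q) (v : ι → F) : om (g * h) *ᵥ v = om g *ᵥ (om h *ᵥ v) :=
  coe_mul_mulVec (⇑Q) (g : Cfsg.isometryGroup F ⇑Q) h v

theorem om_one (v : ι → F) : om (1 : Cfsg.Omega F ⇑Q) *ᵥ v = v := Matrix.one_mulVec v

theorem om_ext {g h : Cfsg.Omega F ⇑Q} (H : ∀ v, om g *ᵥ v = om h *ᵥ v) : g = h :=
  Subtype.ext (isometryGroup_ext (⇑Q) _ _ H)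

theorem om_Q (g : Cfsg.Omega F ⇑Q) (v : ι → F) : Q (om g *ᵥ v) = Q v := (g : Cfsg.isometryGroup F ⇑Q).2 v v

theorem om_polar (g : Cfsg.Omega F ⇑Q) (v w : ι → F) : polar Q (om g *ᵥ v) (om g *ᵥ w) = polar Q v w :=
  polar_mulVec_of_isometry Q _ (om_Q g) v w

/-- Application of `NAStmt`, for an embedding `S.embO`. -/
theorem AData.na' {A : Type v} [AddCommGroup A] [DistribMulAction (Cfsg.Omega F ⇑Q) A] (D : AData Q A)
    (hNA : NAStmt.{v} F) {y : Cfsg.Omega F ⇑Q} (hy : orderOf y = 2) (S : Sim (Q5 F) Q)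
    (hc : ∀ s, y * S.embO s = S.embO s * y) (H : Subgroup (Cfsg.Omega F ⇑(Q5 F))) (χ : ↥H →* ℤˣ)
    (hH : ¬ 7 ∣ Nat.card ↥H) (hχ : χ ≠ 1)
    (hnat : ∀ x : K5 → F, (∀ h : ↥H, om (h : Cfsg.Omega F ⇑(Q5 F)) *ᵥ x = ((χ h : ℤˣ) : ℤ) • x) → x = 0)
    (a : A) (ha : y • a = a) (haH : ∀ h : ↥H, S.embO h • a = ((χ h : ℤˣ) : ℤ) • a) : a = 0 :=
  D.na hNA hy S.embO S.embO_injective hc H χ hH hχ hnat a ha haH

/-- Application of `NBStmt`, for an embedding `S.embO`. -/
theorem AData.nb' {A : Type v} [AddCommGroup A] [DistribMulAction (Cfsg.Omega F ⇑Q) A] (D : AData Q A)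
    (hNB : NBStmt.{v} F) {y : Cfsg.Omega F ⇑Q} (hy : orderOf y = 2) (S : Sim (Q5 F) Q)
    (hc : ∀ s, y * S.embO s = S.embO s * y) (H H' : Subgroup (Cfsg.Omega F ⇑(Q5 F))) (hHH : H ≤ H')
    (hH : ¬ 7 ∣ Nat.card ↥H') (hnat : ∀ x : K5 → F, (∀ h ∈ H, om h *ᵥ x = x) → x = 0)
    (a : A) (ha : y • a = a) (haH : ∀ h ∈ H, S.embO h • a = a) : ∀ h ∈ H', S.embO h • a = a :=
  D.nb hNB hy S.embO S.embO_injective hc H H' hHH hH hnat a ha haH

/-- The product of two reflections in vectors with `Q = 1`. -/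
theorem refl_mul_mem (h2 : (2 : F) ≠ 0) (hQ : (polarBilin Q).Nondegenerate) (hι : 2 ≤ Fintype.card ι) {a b : ι → F}
    (ha : Q a ≠ 0) (hb : Q b ≠ 0) (hab : IsSquare (Q a * Q b)) :
    reflIso Q a ha * reflIso Q b hb ∈ Cfsg.Omega F ⇑Q := by
  rw [S2609.mem_Omega_of_prod h2 hι Q hQ _ [a, b] (by
    intro v hv
    rcases List.mem_cons.1 hv with rfl | hv
    · exact ha
    · rw [List.mem_singleton] at hv
      rw [hv]
      exact hb) (by
    rw [List.map_cons, List.map_cons, List.map_nil, List.prod_cons, List.prod_cons, List.prod_nil, mul_one]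
    rfl)]
  refine ⟨by simp, ?_⟩
  simpa using hab

/-- An orthonormal frame of the `(-1)`-eigenspace of `t`. -/
structure Fr (Q : QuadraticForm F (ι → F)) (t : Cfsg.Omega F ⇑Q) (w : Fin 6 → ι → F) : Prop where
  h2 : (2 : F) ≠ 0
  nd : (polarBilin Q).Nondegenerate
  dim : Fintype.card ι = 8
  orth : ∀ i j, i ≠ j → polar Q (w i) (w j) = 0
  one : ∀ i, Q (w i) = 1
  map : ∀ v, om t *ᵥ v = v - ∑ i, polar Q (w i) v • w i

namespace Fr

variable {t : Cfsg.Omega F ⇑Q} {w : Fin 6 → ι → F}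

theorem ne (h : Fr Q t w) (i : Fin 6) : Q (w i) ≠ 0 := by rw [h.one]; exact one_ne_zero

theorem perm (h : Fr Q t w) (σ : Equiv.Perm (Fin 6)) : Fr Q t (w ∘ σ) where
  h2 := h.h2
  nd := h.nd
  dim := h.dim
  orth i j hij := h.orth _ _ (σ.injective.ne hij)
  one i := h.one _
  map v := by
    rw [h.map]
    congr 1
    exact (Equiv.sum_comp σ (fun i => polar Q (w i) v • w i)).symm

theorem hι (h : Fr Q t w) : 2 ≤ Fintype.card ι := by rw [h.dim]; norm_num

/-- the product of the reflections in `w i` and `w j` -/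
noncomputable def e (h : Fr Q t w) (i j : Fin 6) : Cfsg.Omega F ⇑Q :=
  ⟨reflIso Q (w i) (h.ne i) * reflIso Q (w j) (h.ne j), refl_mul_mem h.h2 h.nd h.hι _ _ (by
    rw [h.one, h.one, one_mul]; exact IsSquare.one)⟩

theorem om_e (h : Fr Q t w) {i j : Fin 6} (hij : i ≠ j) (v : ι → F) :
    om (h.e i j) *ᵥ v = v - polar Q (w i) v • w i - polar Q (w j) v • w j := by
  change (((reflIso Q (w i) (h.ne i) * reflIso Q (w j) (h.ne j) : Cfsg.isometryGroup F ⇑Q) : GL ι F) : Matrix ι ι F) *ᵥ v = _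
  rw [coe_mul_mulVec, coe_reflIso, coe_reflIso, reflectionMatrix_mulVec, reflectionMatrix_mulVec, h.one, h.one,
    inv_one, one_mul, one_mul, polar_sub_right, polar_smul_right, h.orth i j hij, smul_zero, sub_zero]
  abel

theorem e_self (h : Fr Q t w) {i j : Fin 6} (hij : i ≠ j) : om (h.e i j) *ᵥ w i = -w i := by
  rw [h.om_e hij, h.orth j i hij.symm, polar_self', h.one, zero_smul, sub_zero, mul_one, two_smul]
  abel

theorem e_other (h : Fr Q t w) {i j k : Fin 6} (hij : i ≠ j) (hik : i ≠ k) (hjk : j ≠ k) :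
    om (h.e i j) *ᵥ w k = w k := by
  rw [h.om_e hij, h.orth i k hik, h.orth j k hjk, zero_smul, zero_smul, sub_zero, sub_zero]

theorem e_sq (h : Fr Q t w) {i j : Fin 6} (hij : i ≠ j) : h.e i j * h.e i j = 1 := by
  apply om_ext
  intro v
  rw [om_mul, h.om_e hij, h.om_e hij, om_one]
  simp only [polar_sub_right, polar_smul_right, polar_self', h.one, h.orth i j hij, h.orth j i hij.symm]
  module

theorem w_ne (h : Fr Q t w) (i : Fin 6) : w i ≠ 0 := by
  intro h0
  have := h.one i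
  rw [h0, QuadraticMap.map_zero] at this
  exact one_ne_zero this.symm

theorem neg_ne (h : Fr Q t w) (i : Fin 6) : -w i ≠ w i := by
  intro h0
  apply h.w_ne i
  have h1 : (2 : F) • w i = 0 := by
    rw [two_smul]
    nth_rewrite 1 [← h0]
    exact neg_add_cancel _
  exact (smul_eq_zero.1 h1).resolve_left h.h2

theorem e_ne_one (h : Fr Q t w) {i j : Fin 6} (hij : i ≠ j) : h.e i j ≠ 1 := by
  intro h0
  have h1 := h.e_self hij
  rw [h0, om_one] at h1
  exact h.neg_ne i h1.symm

theorem orderOf_e (h : Fr Q t w) {i j : Fin 6} (hij : i ≠ j) : orderOf (h.e i j) = 2 :=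
  orderOf_eq_prime (by rw [pow_two]; exact h.e_sq hij) (h.e_ne_one hij)

/-- The relation between `t` and the `e i j`. -/
theorem t_eq (h : Fr Q t w) : t = h.e 0 1 * h.e 2 3 * h.e 4 5 := by
  apply om_ext
  intro v
  rw [om_mul, om_mul, h.map, h.om_e (by decide), h.om_e (by decide), h.om_e (by decide)]
  simp only [Fin.sum_univ_succ, Fin.sum_univ_zero, polar_sub_right, polar_smul_right, Fin.succ_zero_eq_one,
    Fin.succ_one_eq_two]
  have e3 : (Fin.succ (Fin.succ (1 : Fin 4)) : Fin 6) = 3 := rfl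
  have e4 : (Fin.succ (Fin.succ (Fin.succ (1 : Fin 3))) : Fin 6) = 4 := rfl
  have e5 : (Fin.succ (Fin.succ (Fin.succ (Fin.succ (1 : Fin 2)))) : Fin 6) = 5 := rfl
  have o : ∀ i j : Fin 6, i ≠ j → polar Q (w i) (w j) = 0 := h.orth
  rw [show Fin.succ (2 : Fin 5) = (3 : Fin 6) from rfl, show Fin.succ (Fin.succ (2 : Fin 4)) = (4 : Fin 6) from rfl,
    show Fin.succ (Fin.succ (Fin.succ (2 : Fin 3))) = (5 : Fin 6) from rfl]
  rw [o 2 4 (by decide), o 3 4 (by decide), o 2 5 (by decide), o 3 5 (by decide), o 0 4 (by decide),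
    o 0 5 (by decide), o 1 4 (by decide), o 1 5 (by decide), o 0 2 (by decide), o 0 3 (by decide),
    o 1 2 (by decide), o 1 3 (by decide)]
  module

theorem t_sq (h : Fr Q t w) : t * t = 1 := by
  apply om_ext
  intro v
  rw [om_mul, h.map, h.map, om_one]
  have h1 : ∀ i, polar Q (w i) (v - ∑ i, polar Q (w i) v • w i) = -polar Q (w i) v := by
    intro i
    rw [polar_sub_right, polar_sum, Finset.sum_eq_single i (fun j _ hj => by rw [h.orth i j hj.symm, mul_zero])
      (fun h => absurd (Finset.mem_univ _) h), polar_self', h.one]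
    ring
  simp only [h1, neg_smul, Finset.sum_neg_distrib]
  abel

theorem t_w (h : Fr Q t w) (i : Fin 6) : om t *ᵥ w i = -w i := by
  rw [h.map, Finset.sum_eq_single i (fun j _ hj => by rw [h.orth j i hj, zero_smul])
      (fun h => absurd (Finset.mem_univ _) h), polar_self', h.one, mul_one, two_smul]
  abel

theorem orderOf_t (h : Fr Q t w) : orderOf t = 2 := by
  refine orderOf_eq_prime (by rw [pow_two]; exact h.t_sq) ?_
  intro h0
  have h1 := h.t_w 0
  rw [h0, om_one] at h1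
  exact h.neg_ne 0 h1.symm

theorem t_comm (h : Fr Q t w) {i j : Fin 6} (hij : i ≠ j) : t * h.e i j = h.e i j * t := by
  apply om_ext
  intro v
  rw [om_mul, om_mul, h.om_e hij (om t *ᵥ v), h.om_e hij v, Matrix.mulVec_sub, Matrix.mulVec_sub, Matrix.mulVec_smul,
    Matrix.mulVec_smul, h.t_w, h.t_w]
  have h1 : ∀ i, polar Q (w i) (om t *ᵥ v) = -polar Q (w i) v := by
    intro i
    have h3 := om_polar t (w i) v
    rw [h.t_w, polar_neg_left] at h3
    rw [← h3, neg_neg]
  rw [h1, h1]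
  module

end Fr

/-- Elements acting as a scalar on the image of `J` commute with the embedded group. -/
theorem Sim.embO_comm {κ : Type} [Fintype κ] [DecidableEq κ] {Q' : QuadraticForm F (κ → F)} (S : Sim Q' Q)
    (hQ' : (polarBilin Q').Nondegenerate) {y : Cfsg.Omega F ⇑Q} {c : F} (hc : c * c = 1)
    (hy : ∀ z, om y *ᵥ S.J z = c • S.J z) (s : Cfsg.Omega F ⇑Q') : y * S.embO s = S.embO s * y := by
  have hpr : ∀ v, S.pr (om y *ᵥ v) = c • S.pr v := by
    intro v
    rw [← sub_eq_zero]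
    apply hQ'.2
    intro z
    rw [polarBilin_apply_apply, polar_sub_right, polar_smul_right]
    apply mul_left_cancel₀ S.hc
    rw [mul_zero, mul_sub, ← S.adj, smul_eq_mul, mul_left_comm, ← S.adj]
    have h1 := om_polar y (S.J z) v
    rw [hy, polar_smul_left, smul_eq_mul] at h1
    rw [← h1, ← mul_assoc, hc, one_mul, sub_self]
  apply om_ext
  intro v
  have h1 : ∀ u, om (S.embO s) *ᵥ u = u + S.J (om s *ᵥ S.pr u - S.pr u) := fun u => S.emb_mulVec _ u
  rw [om_mul, om_mul, h1, h1, hpr, Matrix.mulVec_add, hy, Matrix.mulVec_smul, ← smul_sub, map_smul]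

variable {A : Type v} [AddCommGroup A] [DistribMulAction (Cfsg.Omega F ⇑Q) A]

namespace Fr

variable {t : Cfsg.Omega F ⇑Q} {w : Fin 6 → ι → F}

set_option maxHeartbeats 1000000 in
/-- The first application of `NAStmt`. -/
theorem na (h : Fr Q t w) (D : AData Q A) (hNA : NAStmt.{v} F) {a : A} (hta : t • a = a) (h1 : h.e 0 1 • a = -a)
    (h3 : h.e 2 3 • a = -a) : a = 0 := by
  have h2 := h.h2
  let u : Fin 5 → ι → F := fun i => w i.castSucc
  obtain ⟨S, hSu, huS⟩ := exists_sim5 (Q := Q) h2 u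
    (fun i j hij => h.orth _ _ (fun h0 => hij (Fin.castSucc_injective _ h0))) (fun i => h.ne _)
  have hQ5 := Q5_nondegenerate (F := F) h2
  have ht : ∀ z, om t *ᵥ S.J z = (-1 : F) • S.J z := by
    intro z
    obtain ⟨b, hb⟩ := exists_coeff (hSu z)
    rw [hb, Matrix.mulVec_sum, Finset.smul_sum]
    refine Finset.sum_congr rfl fun i _ => ?_
    rw [Matrix.mulVec_smul, h.t_w, neg_one_smul, smul_neg]
  have hcomm := S.embO_comm hQ5 (y := t) (c := -1) (by ring) ht
  have hc5 : 2 ≤ Fintype.card K5 := by decide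
  have hex : ∀ i j : Fin 5, i ≠ j → ∃ s : Cfsg.Omega F ⇑(Q5 F), S.embO s = h.e i.castSucc j.castSucc := by
    intro i j hij
    apply S.exists_emb h2 hQ5 h.nd hc5 h.hι
    intro v hv
    obtain ⟨zi, hzi⟩ := huS i
    obtain ⟨zj, hzj⟩ := huS j
    have h4 := hv zi
    have h5 := hv zj
    rw [hzi] at h4
    rw [hzj] at h5
    have h6 := h.om_e (i := i.castSucc) (j := j.castSucc) (fun h0 => hij (Fin.castSucc_injective _ h0)) v
    change om (h.e i.castSucc j.castSucc) *ᵥ v = v
    rw [h6, h4, h5, zero_smul, zero_smul, sub_zero, sub_zero]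
  obtain ⟨s₁, hs₁⟩ := hex 0 1 (by decide)
  obtain ⟨s₂, hs₂⟩ := hex 2 3 (by decide)
  have hs₁' : S.embO s₁ = h.e 0 1 := hs₁
  have hs₂' : S.embO s₂ = h.e 2 3 := hs₂
  have e01 : h.e 0 1 ≠ h.e 2 3 := by
    intro h0
    have h4 := h.e_self (i := 0) (j := 1) (by decide)
    rw [h0, h.e_other (by decide) (by decide) (by decide)] at h4
    exact h.neg_ne 0 h4.symm
  have ecomm : h.e 0 1 * h.e 2 3 = h.e 2 3 * h.e 0 1 := by
    apply om_ext
    intro v
    rw [om_mul, om_mul, h.om_e (by decide), h.om_e (by decide), h.om_e (by decide), h.om_e (by decide)]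
    simp only [polar_sub_right, polar_smul_right]
    rw [h.orth 0 2 (by decide), h.orth 0 3 (by decide), h.orth 1 2 (by decide), h.orth 1 3 (by decide),
      h.orth 2 0 (by decide), h.orth 3 0 (by decide), h.orth 2 1 (by decide), h.orth 3 1 (by decide)]
    module
  have hinj := S.embO_injective
  obtain ⟨H, χ, hH, hχ, hHχ, ⟨k₁, hk₁, hχ₁⟩, k₂, hk₂, hχ₂⟩ := exists_char (g := s₁) (h := s₂)
    (hinj (by rw [map_mul, hs₁', h.e_sq (by decide), map_one]))
    (hinj (by rw [map_mul, hs₂', h.e_sq (by decide), map_one]))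
    (hinj (by rw [map_mul, map_mul, hs₁', hs₂', ecomm]))
    (fun h0 => h.e_ne_one (i := 0) (j := 1) (by decide) (by rw [← hs₁', h0, map_one]))
    (fun h0 => h.e_ne_one (i := 2) (j := 3) (by decide) (by rw [← hs₂', h0, map_one]))
    (fun h0 => e01 (by rw [← hs₁', ← hs₂', h0]))
  refine D.na' hNA h.orderOf_t S hcomm H χ (by rw [hH]; norm_num) hχ ?_ a hta ?_
  · intro x hx
    have hJ : ∀ s : Cfsg.Omega F ⇑(Q5 F), om (S.embO s) *ᵥ S.J x = S.J (om s *ᵥ x) := fun s => S.emb_J _ x
    have h4 : om s₁ *ᵥ x = -x := by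
      have h5 := hx k₁
      rw [hχ₁, hk₁] at h5
      rw [h5]
      simp
    have h4' : om s₂ *ᵥ x = -x := by
      have h5 := hx k₂
      rw [hχ₂, hk₂] at h5
      rw [h5]
      simp
    have h5 := hJ s₁
    have h6 := hJ s₂
    rw [h4, hs₁', map_neg] at h5
    rw [h4', hs₂', map_neg] at h6
    set y := S.J x with hy
    have hp : ∀ i j k : Fin 6, i ≠ j → k ≠ i → k ≠ j → om (h.e i j) *ᵥ y = -y → polar Q (w k) y = 0 := by
      intro i j k hij hki hkj hh
      have h7 := om_polar (h.e i j) (w k) y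
      rw [hh, h.e_other hij hki.symm hkj.symm, polar_neg_right] at h7
      have h8 : 2 * polar Q (w k) y = 0 := by linear_combination -h7
      exact (mul_eq_zero.1 h8).resolve_left h2
    rw [h.om_e (by decide), hp 2 3 0 (by decide) (by decide) (by decide) h6,
      hp 2 3 1 (by decide) (by decide) (by decide) h6, zero_smul, zero_smul, sub_zero, sub_zero] at h5
    have h7 : (2 : F) • y = 0 := by
      rw [two_smul]
      nth_rewrite 1 [h5]
      exact neg_add_cancel _
    have h8 : y = 0 := (smul_eq_zero.1 h7).resolve_left h2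
    have h9 := S.pr_J x
    rw [← hy, h8, map_zero] at h9
    exact h9.symm
  · intro k
    rcases hHχ k with ⟨h4, h5⟩ | ⟨h4, h5⟩ | ⟨h4, h5⟩ | ⟨h4, h5⟩ <;> rw [h4, h5]
    · rw [map_one, one_smul]; simp
    · rw [hs₁', h1]; simp
    · rw [hs₂', h3]; simp
    · rw [MonoidHom.map_mul S.embO s₁ s₂, mul_smul, hs₂', h3, smul_neg, hs₁', h1]
      simp

/-- The product of two reflections of the frame acts trivially. -/
theorem e_triv (h : Fr Q t w) (D : AData Q A) (hNA : NAStmt.{v} F) {a : A} (hta : t • a = a) : h.e 0 1 • a = a := by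
  have hsq : ∀ i j : Fin 6, i ≠ j → ∀ b : A, h.e i j • (h.e i j • b) = b := by
    intro i j hij b
    rw [← mul_smul, h.e_sq hij, one_smul]
  set b := a - h.e 0 1 • a with hb
  have hb1 : h.e 0 1 • b = -b := by rw [hb, smul_sub, hsq _ _ (by decide), neg_sub]
  have htb : t • b = b := by rw [hb, smul_sub, ← mul_smul, h.t_comm (by decide), mul_smul, hta]
  have key : ∀ (σ : Equiv.Perm (Fin 6)), (h.perm σ).e 0 1 = h.e 0 1 → (h.perm σ).e 2 3 • b = b := by
    intro σ hσ
    set c := b - (h.perm σ).e 2 3 • b with hc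
    have h3 : (h.perm σ).e 2 3 • c = -c := by
      rw [hc, smul_sub, ← mul_smul, (h.perm σ).e_sq (by decide), one_smul, neg_sub]
    have htc : t • c = c := by rw [hc, smul_sub, ← mul_smul, (h.perm σ).t_comm (by decide), mul_smul, htb]
    have ecomm : (h.perm σ).e 0 1 * (h.perm σ).e 2 3 = (h.perm σ).e 2 3 * (h.perm σ).e 0 1 := by
      have g := h.perm σ
      apply om_ext
      intro v
      rw [om_mul, om_mul, g.om_e (by decide), g.om_e (by decide), g.om_e (by decide), g.om_e (by decide)]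
      simp only [polar_sub_right, polar_smul_right]
      rw [g.orth 0 2 (by decide), g.orth 0 3 (by decide), g.orth 1 2 (by decide), g.orth 1 3 (by decide),
        g.orth 2 0 (by decide), g.orth 3 0 (by decide), g.orth 2 1 (by decide), g.orth 3 1 (by decide)]
      module
    have h1 : (h.perm σ).e 0 1 • c = -c := by
      rw [hc, smul_sub, ← mul_smul, ecomm, mul_smul, hσ, hb1, smul_neg]
      abel
    have h4 := (h.perm σ).na D hNA htc h1 h3
    rw [hc, sub_eq_zero] at h4
    exact h4.symm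
  have h23 : h.e 2 3 • b = b := key 1 rfl
  have h45 : h.e 4 5 • b = b := by
    let σ : Equiv.Perm (Fin 6) := Equiv.swap 2 4 * Equiv.swap 3 5
    have s0 : σ 0 = 0 := by decide
    have s1 : σ 1 = 1 := by decide
    have s2 : σ 2 = 4 := by decide
    have s3 : σ 3 = 5 := by decide
    have hee : ∀ i j k l : Fin 6, i ≠ j → k ≠ l → σ i = k → σ j = l → (h.perm σ).e i j = h.e k l := by
      intro i j k l hij hkl hi hj
      apply om_ext
      intro v
      rw [(h.perm σ).om_e hij, h.om_e hkl]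
      simp only [Function.comp_apply, hi, hj]
    have h5 := key σ (hee 0 1 0 1 (by decide) (by decide) s0 s1)
    rwa [hee 2 3 4 5 (by decide) (by decide) s2 s3] at h5
  have h5 : b = 0 := by
    apply D.half
    have h6 := htb
    rw [h.t_eq, mul_smul, mul_smul, h45, h23, hb1] at h6
    exact h6.symm
  rw [hb, sub_eq_zero] at h5
  exact h5.symm

/-- **Elements of `Ω(Q)` which are trivial on the orthogonal complement of the frame act trivially.** -/
theorem triv (h : Fr Q t w) (D : AData Q A) (hNA : NAStmt.{v} F) {g : Cfsg.Omega F ⇑Q}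
    (hg : ∀ v, (∀ i, polar Q (w i) v = 0) → om g *ᵥ v = v) {a : A} (hta : t • a = a) : g • a = a := by
  have h2 := h.h2
  obtain ⟨S, hS⟩ := exists_sim6 (Q := Q) h2 w h.orth h.one
  have hN6 : Nondeg (Q6 F) := Q6_nondeg h2
  have hQ6 := H377.nondegenerate_of_nondeg hN6
  have hc6 : 2 ≤ Fintype.card (Fin 6) := by decide
  have ht : ∀ z, om t *ᵥ S.J z = (-1 : F) • S.J z := by
    intro z
    rw [hS, Matrix.mulVec_sum, Finset.smul_sum]
    refine Finset.sum_congr rfl fun i _ => ?_
    rw [Matrix.mulVec_smul, h.t_w, neg_one_smul, smul_neg]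
  have hcomm := S.embO_comm hQ6 (y := t) (c := -1) (by ring) ht
  have hSw : ∀ i, S.J (Pi.single i 1) = w i := by
    intro i
    rw [hS, Finset.sum_eq_single i (fun j _ hj => by rw [Pi.single_eq_of_ne hj, zero_smul])
      (fun h => absurd (Finset.mem_univ _) h), Pi.single_eq_same, one_smul]
  -- the subgroup acting trivially
  let T : Subgroup (Cfsg.Omega F ⇑(Q6 F)) :=
    { carrier := {s | ∀ a : A, t • a = a → S.embO s • a = a}
      mul_mem' := fun {x y} hx hy a ha => by rw [map_mul, mul_smul, hy a ha, hx a ha]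
      one_mem' := fun a _ => by rw [map_one, one_smul]
      inv_mem' := fun {x} hx a ha => by
        rw [map_inv, inv_smul_eq_iff]
        exact (hx a ha).symm }
  have hfix : ∀ (s : Cfsg.Omega F ⇑(Q6 F)) (a : A), t • a = a → t • (S.embO s • a) = S.embO s • a := by
    intro s a ha
    rw [← mul_smul, hcomm, mul_smul, ha]
  let hom : Cfsg.Omega F ⇑(Q6 F) →* ((Fin 6 → F) ≃ₗ[F] (Fin 6 → F)) :=
    (isometryHom (Q6 F)).comp (Cfsg.Omega F ⇑(Q6 F)).subtype
  have hhinj : Function.Injective hom := (isometryHom_injective (Q6 F)).comp Subtype.val_injective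
  have hgood := LieClassical.OrthFinite.good_of_finite hN6 (by rw [Module.finrank_fintype_fun_eq_card]; decide)
  have hrange : (Cfsg.Omega F ⇑(Q6 F)).map (isometryHom (Q6 F)) = E (Q6 F) := by
    rw [LieClassical.OrthFinite.map_Omega, hgood.commutator_eq_E]
  have hNE : T.map hom ≤ E (Q6 F) := by
    rintro _ ⟨s, hs, rfl⟩
    rw [← hrange]
    exact ⟨s, s.2, rfl⟩
  have hdich := LieClassical.OrthSimple.good_normal_dichotomy hgood hNE (by
    rintro x hx _ ⟨s, hs, rfl⟩
    rw [← hrange] at hx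
    obtain ⟨y, hy, rfl⟩ := hx
    refine ⟨⟨y, hy⟩ * s * ⟨y, hy⟩⁻¹, ?_, by rw [map_mul, map_mul, map_inv]; rfl⟩
    intro a ha
    rw [map_mul, map_mul, mul_smul, mul_smul]
    have h4 := hfix (⟨y, hy⟩ : Cfsg.Omega F ⇑(Q6 F))⁻¹ a ha
    rw [hs _ h4, ← mul_smul, ← map_mul, mul_inv_cancel, map_one, one_smul])
  -- `e 0 1`
  obtain ⟨s₁, hs₁⟩ := S.exists_emb h2 hQ6 h.nd hc6 h.hι (h.e 0 1) (by
    intro v hv
    have h4 := hv (Pi.single 0 1)
    have h5 := hv (Pi.single 1 1)
    rw [hSw] at h4 h5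
    have h6 := h.om_e (i := 0) (j := 1) (by decide) v
    change om (h.e 0 1) *ᵥ v = v
    rw [h6, h4, h5, zero_smul, zero_smul, sub_zero, sub_zero])
  have hs₁T : s₁ ∈ T := by
    intro a ha
    rw [hs₁]
    exact h.e_triv D hNA ha
  have hNeq : T.map hom = E (Q6 F) := by
    rcases hdich with h4 | h4
    · exfalso
      obtain ⟨c, hc⟩ := h4 (hom s₁) ⟨s₁, hs₁T, rfl⟩
      have hJ : ∀ z, om (S.embO s₁) *ᵥ S.J z = S.J (om s₁ *ᵥ z) := fun z => S.emb_J _ z
      have h5 : ∀ z, S.J (om s₁ *ᵥ z) = c • S.J z := by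
        intro z
        have h6 : om s₁ *ᵥ z = c • z := hc z
        rw [h6, map_smul]
      have h6 : ∀ i, om (h.e 0 1) *ᵥ w i = c • w i := by
        intro i
        rw [← hs₁, ← hSw, hJ, h5]
      have h7 := h6 0
      have h8 := h6 2
      rw [h.e_self (by decide)] at h7
      rw [h.e_other (by decide) (by decide) (by decide)] at h8
      have hc1 : c = 1 := by
        have h9 : (c - 1) • w 2 = 0 := by rw [sub_smul, ← h8, one_smul, sub_self]
        exact sub_eq_zero.1 ((smul_eq_zero.1 h9).resolve_right (h.w_ne 2))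
      rw [hc1, one_smul] at h7
      exact h.neg_ne 0 h7
    · exact h4
  obtain ⟨s, hs⟩ := S.exists_emb h2 hQ6 h.nd hc6 h.hι g (by
    intro v hv
    apply hg
    intro i
    rw [← hSw]
    exact hv _)
  have hsT : s ∈ T := by
    have h4 : hom s ∈ T.map hom := by
      rw [hNeq, ← hrange]
      exact ⟨s, s.2, rfl⟩
    obtain ⟨s', hs', h5⟩ := h4
    rw [← hhinj h5]
    exact hs'
  rw [← hs]
  exact hsT a hta

end Fr

end Cfsg.Agent.H273.S69
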